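import Cfsg.Agent.Lib.FgsC.FormClasses.Odd.Count
import Cfsg.Agent.Lib.FgsC.FormClasses.OrthUpper

/-!
The numerical bounds for the codes in dimension `2n + 1`.
-/

set_option autoImplicit false

namespace CfsgLib.FgsC.FormClasses

open Finset

universe u

variable {F : Type u} [Field F] [Fintype F]

theorem slotB_one_eq (h2 : (2 : F) ≠ 0) : slotB (1 : F) = evenB := by
  funext i
  rw [Bool.eq_iff_iff, slotB_one h2, evenB, decide_eq_true_iff, Nat.even_iff]

theorem three_le_of_odd (hodd : Odd (Fintype.card F)) : 3 ≤ Fintype.card F := by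
  have := Fintype.one_lt_card (α := F)
  obtain ⟨k, hk⟩ := hodd
  omega

theorem codeSum_false_odd {q N : ℕ} (hN : Odd N) : codeSum q N (fun _ => false) = 0 := by
  rw [codeSum, Finset.sum_eq_zero]
  intro z hz
  obtain ⟨hw, hb⟩ := (Finset.mem_filter.1 hz).2
  exfalso
  have h0 : ∀ i l, bw (z.2 i l) = 0 := fun i l => by
    cases h : z.2 i l
    · rfl
    · exact absurd (hb i l h) Bool.false_ne_true
  simp only [h0, Finset.sum_const_zero, add_zero] at hw
  obtain ⟨k, hk⟩ := hN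
  rw [Finset.sum_congr rfl fun i _ => mul_left_comm _ 2 _, ← Finset.mul_sum] at hw
  omega

/-- Facts on `1 / √3`. -/
theorem root_third : ∃ t : ℝ, 57734 / 100000 ≤ t ∧ t ^ 2 = 1 / 3 ∧ ∀ n : ℕ, t ^ (2 * n + 1) * (3 : ℝ) ^ n = t := by
  refine ⟨(Real.sqrt 3)⁻¹, ?_, ?_, fun n => ?_⟩
  · have h : Real.sqrt 3 ≤ 100000 / 57734 := (Real.sqrt_le_left (by norm_num)).2 (by norm_num)
    rw [le_inv_comm₀ (by norm_num) (Real.sqrt_pos.2 (by norm_num))]
    exact h.trans (by norm_num)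
  · rw [inv_pow, Real.sq_sqrt (by norm_num), one_div]
  · rw [pow_succ, pow_mul, inv_pow, Real.sq_sqrt (by norm_num), mul_right_comm, ← mul_pow]
    norm_num

theorem prodW2_le_third {t : ℝ} (ht : 0 ≤ t) (ht2 : t ^ 2 = 1 / 3) (n : ℕ) :
    prodW2 (2 * n + 1) t ≤ 17854 / 10000 * (20664 / 10000) ^ 2 := by
  rw [prodW2, Finset.prod_mul_distrib, bitProd_odd]
  exact mul_le_mul (degProd_le ht2.le _) (pow_le_pow_left₀ (Finset.prod_nonneg fun j _ => by positivity)
    (oddBits_le ht ht2.le _) 2) (by positivity) (by norm_num)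

theorem codeSum_odd_three (n : ℕ) : 10 * codeSum 3 (2 * n + 1) evenB ≤ 282 * 3 ^ n := by
  obtain ⟨t, htl, ht2, htn⟩ := root_third
  have ht : 0 < t := by linarith
  have htq : t ^ 2 * ((3 : ℕ) : ℝ) = 1 := by rw [ht2]; norm_num
  have hN : Odd (2 * n + 1) := odd_two_mul_add_one n
  have h1 := codeSum_mul_pow htq (2 * n + 1) evenB
  have h2 := codeSum_mul_pow (t := -t) (by rw [neg_sq]; exact htq) (2 * n + 1) evenB
  rw [hN.neg_pow] at h2
  have h : 2 * ((codeSum 3 (2 * n + 1) evenB : ℝ) * t ^ (2 * n + 1)) ≤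
      prodW (2 * n + 1) evenB t - prodW (2 * n + 1) evenB (-t) := by
    rw [← sum_shapeW, ← sum_shapeW, ← Finset.sum_sub_distrib, two_mul]
    nth_rw 1 [h1]
    rw [show (codeSum 3 (2 * n + 1) evenB : ℝ) * t ^ (2 * n + 1) =
      -((codeSum 3 (2 * n + 1) evenB : ℝ) * -t ^ (2 * n + 1)) by ring, h2, ← sub_eq_add_neg, ← Finset.sum_sub_distrib]
    refine Finset.sum_le_sum_of_subset_of_nonneg (Finset.subset_univ _) fun f _ _ => ?_
    have := abs_shapeW_neg ht.le (2 * n + 1) evenB f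
    have := le_abs_self (shapeW (2 * n + 1) evenB (-t) f)
    linarith
  have hneg : 0 ≤ prodW (2 * n + 1) evenB (-t) := by
    refine Finset.prod_nonneg fun i _ => mul_nonneg (Finset.sum_nonneg fun M _ => ?_)
      (Even.pow_nonneg (by decide : Even 4) _)
    unfold degW
    split_ifs <;> positivity
  have hP : prodW (2 * n + 1) evenB t ≤ 17854 / 10000 * (20664 / 10000) ^ 4 := by
    rw [prodW, Finset.prod_mul_distrib, bitProd_odd]
    exact mul_le_mul (degProd_le ht2.le _) (pow_le_pow_left₀ (Finset.prod_nonneg fun j _ => by positivity)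
      (oddBits_le ht.le ht2.le _) 4) (by positivity) (by norm_num)
  obtain ⟨C, hC⟩ : ∃ C : ℝ, C = (codeSum 3 (2 * n + 1) evenB : ℝ) := ⟨_, rfl⟩
  rw [← hC] at h
  rw [← Nat.cast_le (α := ℝ)]
  push_cast
  rw [← hC]
  have hT : (0 : ℝ) < (3 : ℝ) ^ n := by positivity
  obtain ⟨c, hc⟩ : ∃ c : ℝ, C = c * (3 : ℝ) ^ n := ⟨C / (3 : ℝ) ^ n, by field_simp⟩
  have hc0 : 0 ≤ c := by
    have : 0 ≤ C := hC ▸ Nat.cast_nonneg _
    rw [hc] at this
    exact nonneg_of_mul_nonneg_left this hT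
  rw [hc, show c * (3 : ℝ) ^ n * t ^ (2 * n + 1) = c * (t ^ (2 * n + 1) * (3 : ℝ) ^ n) by ring, htn] at h
  norm_num at hP
  have : c ≤ 282 / 10 := by nlinarith [mul_le_mul_of_nonneg_left htl hc0]
  rw [hc]
  nlinarith

/-- The codes in dimension `2n + 1`. -/
theorem codeSum_odd_le (hodd : Odd (Fintype.card F)) (n : ℕ) :
    10 * codeSum (Fintype.card F) (2 * n + 1) (slotB (1 : F)) ≤ 282 * Fintype.card F ^ n := by
  rw [slotB_one_eq (two_ne_zero_of_odd hodd)]
  have h := sum_pow_mono (n := n) rfl (three_le_of_odd hodd) (Finset.Subset.refl (shapes (2 * n + 1) evenB))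
  have h3 := codeSum_odd_three n
  rw [codeSum] at h3 ⊢
  refine Nat.le_of_mul_le_mul_right ?_ (pow_pos (show 0 < 3 by omega) n)
  rw [mul_assoc]
  refine (Nat.mul_le_mul_left 10 h).trans ?_
  rw [← mul_assoc, mul_right_comm 282]
  exact Nat.mul_le_mul_right _ h3

/-- The reduced codes in dimension `2n + 1`. -/
theorem card_code2_odd_le (hodd : Odd (Fintype.card F)) (n : ℕ) (hn : 2 ≤ n) :
    Nat.card {z // IsCode2 (2 * n + 1) F z} ≤ 5 * Fintype.card F ^ n := by
  have hN : Odd (2 * n + 1) := odd_two_mul_add_one n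
  rcases eq_or_ne (Fintype.card F) 3 with h3 | h3
  · obtain ⟨t, htl, ht2, htn⟩ := root_third
    have ht : 0 < t := by linarith
    have htq : t ^ 2 * ((3 : ℕ) : ℝ) = 1 := by rw [ht2]; norm_num
    have hA := sum_shapes2_le hN ht htq
    have hB := sum_zero_le hN (by omega) ht htq
    rw [show t ^ 4 = (t ^ 2) ^ 2 by ring, ht2] at hB
    have hP := prodW2_le_third ht.le ht2 n
    have h := card_code2_le_three (F := F) (N := 2 * n + 1) h3 (by omega)
    rw [h3]
    generalize Nat.card {z // IsCode2 (2 * n + 1) F z} = Z at h ⊢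
    generalize (∑ y ∈ shapes2 (2 * n + 1), 3 ^ ∑ i, (y.1 i : ℕ) : ℕ) = A at h hA
    generalize (∑ y ∈ shapes2Zero (2 * n + 1), 3 ^ ∑ i, (y.1 i : ℕ) : ℕ) = B at h hB
    rw [← Nat.cast_le (α := ℝ)] at h ⊢
    push_cast at h ⊢
    have hT : (0 : ℝ) < (3 : ℝ) ^ n := by positivity
    obtain ⟨a, ha⟩ : ∃ a : ℝ, (A : ℝ) = a * (3 : ℝ) ^ n := ⟨A / (3 : ℝ) ^ n, by field_simp⟩
    obtain ⟨b, hb⟩ : ∃ b : ℝ, (B : ℝ) = b * (3 : ℝ) ^ n := ⟨B / (3 : ℝ) ^ n, by field_simp⟩
    have ha0 : 0 ≤ a := nonneg_of_mul_nonneg_left (by rw [← ha]; exact Nat.cast_nonneg _) hT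
    have hb0 : 0 ≤ b := nonneg_of_mul_nonneg_left (by rw [← hb]; exact Nat.cast_nonneg _) hT
    rw [ha, show a * (3 : ℝ) ^ n * t ^ (2 * n + 1) = a * (t ^ (2 * n + 1) * (3 : ℝ) ^ n) by ring, htn] at hA
    rw [hb, show b * (3 : ℝ) ^ n * t ^ (2 * n + 1) = b * (t ^ (2 * n + 1) * (3 : ℝ) ^ n) by ring, htn] at hB
    rw [ha, hb] at h
    norm_num at hP hB
    have key : 4 * a + 5 * b ≤ 45 := by
      nlinarith [mul_le_mul_of_nonneg_left htl ha0, mul_le_mul_of_nonneg_left htl hb0]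
    nlinarith
  · have hq4 : 4 ≤ Fintype.card F := by
      have := three_le_of_odd hodd
      omega
    have htq : (1 / 2 : ℝ) ^ 2 * ((4 : ℕ) : ℝ) = 1 := by norm_num
    have hA := sum_shapes2_le hN (show (0 : ℝ) < 1 / 2 by norm_num) htq
    have hP : prodW2 (2 * n + 1) (1 / 2 : ℝ) ≤ 14532 / 10000 * (17610 / 10000) ^ 2 := by
      rw [prodW2, Finset.prod_mul_distrib, bitProd_odd]
      exact mul_le_mul (degProd_quarter _) (pow_le_pow_left₀ (Finset.prod_nonneg fun j _ => by positivity)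
        (oddBits_half _) 2) (by positivity) (by norm_num)
    have hm := sum_pow_mono (n := n) rfl hq4 (show shapes2 (2 * n + 1) ⊆ shapes (2 * n + 1) evenB from
      Finset.filter_subset _ _)
    refine (card_code2_le (F := F)).trans ?_
    refine Nat.le_of_mul_le_mul_right (hm.trans ?_) (pow_pos (show 0 < 4 by omega) n)
    rw [mul_right_comm]
    refine Nat.mul_le_mul_right _ ?_
    generalize (∑ y ∈ shapes2 (2 * n + 1), 4 ^ ∑ i, (y.1 i : ℕ) : ℕ) = A at hA
    rw [← Nat.cast_le (α := ℝ)]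
    push_cast
    rw [pow_succ, pow_mul, show ((1 / 2 : ℝ)) ^ 2 = (4 : ℝ)⁻¹ by norm_num, inv_pow] at hA
    norm_num at hP
    have hT : (0 : ℝ) < (4 : ℝ) ^ n := by positivity
    have hA' : (A : ℝ) * ((4 : ℝ) ^ n)⁻¹ ≤ 5 := by linarith
    rwa [mul_inv_le_iff₀ hT] at hA'

end CfsgLib.FgsC.FormClasses
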