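import Cfsg.Agent.Lib.FgsC.FormClasses.Flip
import Cfsg.Agent.Lib.Geometry.OmegaMem
import Cfsg.Agent.Lib.Geometry.OmegaMore
import Mathlib.LinearAlgebra.Matrix.Block

/-!
An isometry commutes with the negation on a nondegenerate chain; classes lying in `Ω` with their whole centralizer
have at most one chain of each odd length and forced square classes.
-/

set_option autoImplicit false
set_option linter.unusedSectionVars false

namespace CfsgLib.FgsC.FormClasses

open Matrix QuadraticMap CfsgLib.KnownB.JordanCent CfsgLib.Classical.Unitary CfsgLib.KnownB.UnitJordan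
  CfsgLib.Geometry

universe u

variable {F : Type u} [Field F]

local notation "idF" => RingHom.id F

/-! ### One chain inside a Jordan matrix -/

section Emb

variable {t : ℕ} {d : Fin t → ℕ} {i : ℕ}

/-- The nilpotent chain matrix. -/
def chainN (F : Type u) [Field F] (i : ℕ) : Matrix (Fin i) (Fin i) F :=
  Matrix.of fun a b => if (a : ℕ) = b + 1 then 1 else 0

/-- A vector of the multiplicity space as a chain. -/
def chainE (d : Fin t → ℕ) (i : ℕ) (u : Diag d i → F) : Matrix (Idx d) (Fin i) F :=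
  Matrix.of fun p a => if h : d p.1 = i then (if (p.2 : ℕ) = a then u ⟨p.1, h⟩ else 0) else 0

theorem shift_chainE (u : Diag d i → F) : shift d F * chainE d i u = chainE d i u * chainN F i := by
  ext ⟨k, x⟩ b
  rw [Matrix.mul_apply, Matrix.mul_apply]
  by_cases hk : d k = i
  · have hR : ∑ a : Fin i, chainE d i u ⟨k, x⟩ a * chainN F i a b =
        if (x : ℕ) = b + 1 then u ⟨k, hk⟩ else 0 := by
      rw [Finset.sum_eq_single (⟨x, by rw [← hk]; exact x.isLt⟩ : Fin i)]
      · simp only [chainE, chainN, Matrix.of_apply, dif_pos hk, if_pos, mul_ite, mul_one, mul_zero]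
      · intro a _ ha
        simp only [chainE, Matrix.of_apply, dif_pos hk]
        rw [if_neg (fun e : (x : ℕ) = a => ha (Fin.ext e.symm)), zero_mul]
      · simp
    rw [hR]
    by_cases hx : (x : ℕ) = b + 1
    · rw [if_pos hx, Finset.sum_eq_single (⟨k, ⟨b, by omega⟩⟩ : Idx d)]
      · simp [shift, chainE, hk, hx]
      · rintro ⟨l, y⟩ _ hne
        simp only [shift, Matrix.of_apply]
        split_ifs with h
        · obtain ⟨h1, h2⟩ := h
          change k = l at h1
          subst h1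
          change (x : ℕ) = y + 1 at h2
          exact absurd (congrArg (Sigma.mk k) (Fin.ext (show (y : ℕ) = b by omega))) hne
        · rw [zero_mul]
      · simp
    · rw [if_neg hx]
      refine Finset.sum_eq_zero fun q _ => ?_
      obtain ⟨l, y⟩ := q
      simp only [shift, chainE, Matrix.of_apply]
      split_ifs with h h' h'' <;> first | rw [zero_mul] | rw [mul_zero] | skip
      obtain ⟨h1, h2⟩ := h
      change (x : ℕ) = y + 1 at h2
      exact absurd (show (x : ℕ) = b + 1 by omega) hx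
  · rw [Finset.sum_eq_zero, Finset.sum_eq_zero]
    · intro a _
      simp [chainE, hk]
    · rintro ⟨l, y⟩ _
      simp only [shift, chainE, Matrix.of_apply]
      by_cases h : k = l ∧ (x : ℕ) = y + 1
      · rw [dif_neg (show ¬ d l = i from h.1 ▸ hk), mul_zero]
      · rw [if_neg h, zero_mul]

theorem sum_idx_fibre (f : Diag d i → F) :
    ∑ k : Fin t, (if h : d k = i then f ⟨k, h⟩ else 0) = ∑ k : Diag d i, f k := by
  classical
  rw [← Finset.sum_filter_add_sum_filter_not Finset.univ (fun k => d k = i),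
    Finset.sum_eq_zero (s := Finset.univ.filter fun k => ¬ d k = i)
      (fun k hk => dif_neg (Finset.mem_filter.1 hk).2), add_zero,
    Finset.sum_subtype (Finset.univ.filter fun k => d k = i) (p := fun k => d k = i) (fun k => by simp)]
  exact Finset.sum_congr rfl fun k _ => dif_pos k.2

theorem mul_chainE (H : Matrix (Idx d) (Idx d) F) (u : Diag d i → F) (p : Idx d) (b : Fin i) :
    (H * chainE d i u) p b = ∑ l : Diag d i, u l * ent H p.1 p.2 l.1 b := by
  rw [Matrix.mul_apply, Fintype.sum_sigma, ← sum_idx_fibre]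
  refine Finset.sum_congr rfl fun l _ => ?_
  by_cases hl : d l = i
  · rw [dif_pos hl, Finset.sum_eq_single (⟨b, by rw [hl]; exact b.isLt⟩ : Fin (d l))]
    · rw [ent_eq H p.2.isLt (show (b : ℕ) < d l by rw [hl]; exact b.isLt)]
      simp [chainE, hl]
      exact mul_comm _ _
    · intro y _ hy
      simp only [chainE, Matrix.of_apply, dif_pos hl]
      rw [if_neg (fun e : (y : ℕ) = b => hy (Fin.ext e)), mul_zero]
    · simp
  · rw [dif_neg hl]
    exact Finset.sum_eq_zero fun y _ => by simp [chainE, hl]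

theorem gram_chainE (H : Matrix (Idx d) (Idx d) F) (u : Diag d i → F) (a b : Fin i) :
    ((chainE d i u)ᵀ * H * chainE d i u) a b = ∑ k : Diag d i, u k * ∑ l : Diag d i, u l * ent H k.1 a l.1 b := by
  rw [Matrix.mul_assoc, Matrix.mul_apply, Fintype.sum_sigma, ← sum_idx_fibre]
  refine Finset.sum_congr rfl fun k _ => ?_
  by_cases hk : d k = i
  · rw [dif_pos hk, Finset.sum_eq_single (⟨a, by rw [hk]; exact a.isLt⟩ : Fin (d k))]
    · rw [mul_chainE]
      simp [chainE, hk]
    · intro x _ hx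
      simp only [chainE, transpose_apply, Matrix.of_apply, dif_pos hk]
      rw [if_neg (fun e : (x : ℕ) = a => hx (Fin.ext e)), zero_mul]
    · simp
  · rw [dif_neg hk]
    exact Finset.sum_eq_zero fun x _ => by simp [chainE, hk]

/-- The universal factor in the Gram determinant of a chain. -/
def wt (F : Type u) [Field F] (i : ℕ) : F :=
  ((Equiv.Perm.sign (Fin.revPerm : Equiv.Perm (Fin i)) : ℤ) : F) * ∏ x : Fin i, (-1 : F) ^ (x : ℕ)

theorem wt_ne_zero (i : ℕ) : wt F i ≠ 0 := by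
  refine mul_ne_zero ?_ (Finset.prod_ne_zero_iff.2 fun x _ => pow_ne_zero _ (neg_ne_zero.2 one_ne_zero))
  rcases Int.units_eq_one_or (Equiv.Perm.sign (Fin.revPerm : Equiv.Perm (Fin i))) with h | h <;> simp [h]

theorem det_gram_chainE {H : Matrix (Idx d) (Idx d) F} (hH : SForm idF 1 d H) (u : Diag d i → F) :
    ((chainE d i u)ᵀ * H * chainE d i u).det = wt F i * (u ⬝ᵥ (formG H i *ᵥ u)) ^ i := by
  obtain ⟨K, hK⟩ : ∃ K, K = (chainE d i u)ᵀ * H * chainE d i u := ⟨_, rfl⟩
  rw [← hK]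
  have htri : (K.submatrix id (Fin.revPerm : Equiv.Perm (Fin i))).BlockTriangular id := by
    intro x y hxy
    rw [submatrix_apply, hK, gram_chainE]
    refine Finset.sum_eq_zero fun k _ => mul_eq_zero_of_right _ (Finset.sum_eq_zero fun l _ => ?_)
    refine mul_eq_zero_of_right _ (hH.vanish _ _ _ _ ?_)
    have := x.isLt
    have hxy' : (y : ℕ) < x := hxy
    rw [l.2]
    simp only [id, Fin.revPerm_apply, Fin.val_rev]
    omega
  have hdiag : ∀ x : Fin i, (K.submatrix id (Fin.revPerm : Equiv.Perm (Fin i))) x x =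
      (-1 : F) ^ (x : ℕ) * (u ⬝ᵥ (formG H i *ᵥ u)) := by
    intro x
    rw [submatrix_apply, hK, gram_chainE]
    simp only [id, Fin.revPerm_apply, Fin.val_rev, dotProduct, mulVec, formG, Matrix.of_apply, Finset.mul_sum]
    refine Finset.sum_congr rfl fun k _ => Finset.sum_congr rfl fun l _ => ?_
    rw [show i - ((x : ℕ) + 1) = i - 1 - x by omega, hH.antidiag k.2 l.2 x x.isLt]
    ring
  have h := det_permute' (Fin.revPerm : Equiv.Perm (Fin i)) K
  rw [det_of_upperTriangular htri, Finset.prod_congr rfl fun x _ => hdiag x, Finset.prod_mul_distrib,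
    Finset.prod_const, Finset.card_univ, Fintype.card_fin] at h
  rw [wt, mul_assoc, h, ← mul_assoc, ← Int.cast_mul, ← Units.val_mul, Int.units_mul_self, Units.val_one,
    Int.cast_one, one_mul]

end Emb

/-! ### The negation on a chain -/

section Involution

variable {κ : Type} [Fintype κ] [DecidableEq κ] {i : ℕ}

/-- The rank one map of a reflection. -/
def reflPart (Q : (κ → F) → F) (v : κ → F) : Matrix κ κ F := (Q v)⁻¹ • vecMulVec v (Cfsg.polarVec Q v)

theorem exists_orth_negation [Finite F] {Q : QuadraticForm F (κ → F)} (hQ : (polarBilin Q).Nondegenerate)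
    (hR : reflGroup Q = orth Q) (v : Fin i → κ → F) (hv : ∀ x, Q (v x) ≠ 0)
    (hor : ∀ x y, x ≠ y → polar Q (v x) (v y) = 0) (s : Finset (Fin i)) :
    ∃ g : Cfsg.isometryGroup F ⇑Q,
      ((g : Matrix.GeneralLinearGroup κ F) : Matrix κ κ F) = 1 - ∑ x ∈ s, reflPart ⇑Q (v x) ∧
      (orthInvariant hQ hR (isomEquiv Q g)).1 =
        sqMk (Finset.prod_ne_zero_iff.2 fun x (_ : x ∈ s) => hv x) ∧
      detHom ⇑Q g = (-1) ^ s.card := by
  classical
  induction s using Finset.induction_on with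
  | empty =>
    refine ⟨1, by simp, ?_, by simp⟩
    rw [map_one, map_one, Prod.fst_one]
    exact ((sqMk_eq_one_iff _).2 (by simp)).symm
  | @insert a s has ih =>
    obtain ⟨g, hg, hs, hd⟩ := ih
    obtain ⟨r, hr, hre⟩ : ∃ r : Cfsg.isometryGroup F ⇑Q,
        ((r : Matrix.GeneralLinearGroup κ F) : Matrix κ κ F) = Cfsg.reflectionMatrix ⇑Q (v a) ∧
        isomEquiv Q r = oRefl Q (v a) (hv a) := by
      refine ⟨(isomEquiv Q).symm (oRefl Q (v a) (hv a)), ?_, MulEquiv.apply_symm_apply _ _⟩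
      rw [isomEquiv_eq_refl_iff Q _ _ (hv a), MulEquiv.apply_symm_apply]
      rfl
    refine ⟨r * g, ?_, ?_, ?_⟩
    · have h0 : reflPart ⇑Q (v a) * ∑ x ∈ s, reflPart ⇑Q (v x) = 0 := by
        rw [Finset.mul_sum]
        refine Finset.sum_eq_zero fun x hx => ?_
        rw [reflPart, reflPart, Matrix.smul_mul, Matrix.mul_smul, vecMulVec_mul_vecMulVec, polarVec_dot,
          hor a x (fun e => has (e ▸ hx))]
        simp
      rw [Subgroup.coe_mul, Units.val_mul, hr, hg, Finset.sum_insert has]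
      show (1 - reflPart ⇑Q (v a)) * (1 - ∑ x ∈ s, reflPart ⇑Q (v x)) = _
      rw [sub_mul, one_mul, mul_sub, mul_one, h0, sub_zero]
      abel
    · rw [map_mul, map_mul, Prod.fst_mul, hre, orthInvariant_oRefl, hs, ← sqMk_mul]
      congr 1
      rw [Finset.prod_insert has]
    · rw [map_mul, detHom_refl Q r ⟨_, hv a, hr⟩, hd, Finset.card_insert_of_notMem has, pow_succ']

variable [Fintype F]

/-- The negation on a nondegenerate invariant chain. -/
theorem exists_chain_involution (h2 : (2 : F) ≠ 0) {M : Matrix κ κ F} (hQ : (polarBilin (matQuad M)).Nondegenerate)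
    (hR : reflGroup (matQuad M) = orth (matQuad M)) {A : Matrix κ κ F} (hA : Aᵀ * (M + Mᵀ) * A = M + Mᵀ)
    {Qm : Matrix κ (Fin i) F} {T : Matrix (Fin i) (Fin i) F} (hAQ : A * Qm = Qm * T)
    (hK : (Qmᵀ * (M + Mᵀ) * Qm).det ≠ 0) :
    ∃ g : Cfsg.isometryGroup F ⇑(matQuad M),
      A * ((g : Matrix.GeneralLinearGroup κ F) : Matrix κ κ F) =
        ((g : Matrix.GeneralLinearGroup κ F) : Matrix κ κ F) * A ∧
      detHom ⇑(matQuad M) g = (-1) ^ i ∧
      ∃ h : (Qmᵀ * (M + Mᵀ) * Qm).det * (2 : F) ^ i ≠ 0,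
        (orthInvariant hQ hR (isomEquiv (matQuad M) g)).1 = sqMk h := by
  classical
  obtain ⟨J, hJ⟩ : ∃ J, J = M + Mᵀ := ⟨_, rfl⟩
  rw [← hJ] at hA hK ⊢
  have hJs : Jᵀ = J := by rw [hJ, transpose_add, transpose_transpose, add_comm]
  obtain ⟨K, hKe⟩ : ∃ K, K = Qmᵀ * J * Qm := ⟨_, rfl⟩
  rw [← hKe] at hK ⊢
  have hKs : Kᵀ = K := by rw [hKe, transpose_mul, transpose_mul, transpose_transpose, hJs, Matrix.mul_assoc]
  -- an orthogonal basis of the chain
  obtain ⟨w, hw⟩ : ∃ w : Fin i → F, w = fun x : Fin i => if (x : ℕ) = 0 then K.det else 1 := ⟨_, rfl⟩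
  have hwd : (Matrix.diagonal w).det = K.det := by
    rw [det_diagonal, hw]
    rcases Nat.eq_zero_or_pos i with rfl | hi
    · simp
    · rw [Finset.prod_eq_single (⟨0, hi⟩ : Fin i)]
      · simp
      · intro x _ hx
        exact if_neg fun e => hx (Fin.ext e)
      · simp
  have hw0 : ∀ x, w x ≠ 0 := fun x => by rw [hw]; dsimp only; split_ifs <;> simp [hK]
  obtain ⟨X, hX⟩ := exists_congr_matrix h2 (G := K) (G' := Matrix.diagonal w) (Or.inl rfl)
    (by rw [one_smul, hKs]) (by rw [one_smul, diagonal_transpose]) hK (by rw [hwd]; exact hK)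
    (fun _ => ⟨K.det, by rw [hwd]⟩)
  have hXd : IsUnit X.det := isUnit_iff_ne_zero.2 fun h0 => hK (by
    rw [← hX, det_mul, det_mul, h0, mul_zero])
  obtain ⟨Y, hY⟩ : ∃ Y, Y = Qm * X⁻¹ := ⟨_, rfl⟩
  obtain ⟨T', hT'⟩ : ∃ T', T' = X * T * X⁻¹ := ⟨_, rfl⟩
  have hAY : A * Y = Y * T' := by
    rw [hY, hT', ← Matrix.mul_assoc A, hAQ, Matrix.mul_assoc Qm X⁻¹, ← Matrix.mul_assoc X⁻¹,
      ← Matrix.mul_assoc X⁻¹, nonsing_inv_mul _ hXd, Matrix.one_mul, Matrix.mul_assoc]
  have hYD : Yᵀ * J * Y = Matrix.diagonal w := by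
    calc Yᵀ * J * Y = (X⁻¹)ᵀ * K * X⁻¹ := by rw [hY, hKe, transpose_mul]; simp only [Matrix.mul_assoc]
      _ = (X * X⁻¹)ᵀ * Matrix.diagonal w * (X * X⁻¹) := by
        rw [← hX, transpose_mul]; simp only [Matrix.mul_assoc]
      _ = _ := by rw [mul_nonsing_inv _ hXd, transpose_one, Matrix.one_mul, Matrix.mul_one]
  let v : Fin i → κ → F := fun x => Yᵀ x
  have hB : ∀ x y, polar (matQuad M) (v x) (v y) = Matrix.diagonal w x y := by
    intro x y
    rw [polar_matQuad, ← hJ, ← hYD, Matrix.mul_assoc, Matrix.mul_apply_eq_vecMul]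
    rfl
  have hQv : ∀ x, matQuad M (v x) = w x / 2 := fun x => by
    have := hB x x
    rw [polar_self', diagonal_apply_eq] at this
    rw [← this]
    field_simp
  have hv : ∀ x, matQuad M (v x) ≠ 0 := fun x => by rw [hQv]; exact div_ne_zero (hw0 x) h2
  obtain ⟨g, hg, hs, hd⟩ := exists_orth_negation hQ hR v hv (fun x y h => by rw [hB, diagonal_apply_ne _ h])
    Finset.univ
  obtain ⟨D, hD⟩ : ∃ D : Matrix (Fin i) (Fin i) F, D = Matrix.diagonal fun x => 2 * (w x)⁻¹ := ⟨_, rfl⟩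
  have hsum : ∑ x, reflPart ⇑(matQuad M) (v x) = Y * D * (Yᵀ * J) := by
    ext r c
    rw [Matrix.sum_apply, Matrix.mul_apply]
    refine Finset.sum_congr rfl fun x _ => ?_
    have hp : Cfsg.polarVec ⇑(matQuad M) (v x) c = (Yᵀ * J) x c := by
      show polar _ _ _ = _
      rw [polar_matQuad, ← hJ, Matrix.mulVec_single_one, Matrix.mul_apply]
      rfl
    rw [reflPart, Matrix.smul_apply, vecMulVec_apply, smul_eq_mul, hQv, hp, hD, mul_diagonal, inv_div]
    show 2 / w x * (Y r x * _) = _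
    ring
  refine ⟨g, ?_, by rw [hd, Finset.card_univ, Fintype.card_fin], ?_⟩
  · rw [hg, hsum, mul_sub, sub_mul, one_mul, mul_one]
    congr 1
    have hTD : Matrix.diagonal w = T'ᵀ * Matrix.diagonal w * T' := by
      conv_lhs => rw [← hYD, ← hA]
      rw [← hYD]
      calc Yᵀ * (Aᵀ * J * A) * Y = (A * Y)ᵀ * J * (A * Y) := by rw [transpose_mul]; simp only [Matrix.mul_assoc]
        _ = _ := by rw [hAY, transpose_mul]; simp only [Matrix.mul_assoc]
    have hT0 : IsUnit T'.det := isUnit_iff_ne_zero.2 fun h0 => by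
      have := congrArg Matrix.det hTD
      rw [hwd, det_mul, det_mul, h0, mul_zero] at this
      exact hK this
    have hTu : IsUnit T'ᵀ.det := by rwa [det_transpose]
    have h1 : T'ᵀ * (Yᵀ * J * A) = Yᵀ * J := by
      calc T'ᵀ * (Yᵀ * J * A) = (A * Y)ᵀ * J * A := by rw [hAY, transpose_mul]; simp only [Matrix.mul_assoc]
        _ = Yᵀ * (Aᵀ * J * A) := by rw [transpose_mul]; simp only [Matrix.mul_assoc]
        _ = _ := by rw [hA]
    have h3 : T' * D * T'ᵀ = D := by
      have hDW : D * Matrix.diagonal w = (2 : F) • 1 := by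
        rw [hD, diagonal_mul_diagonal, ← diagonal_one, ← diagonal_smul]
        congr 1
        funext x
        show 2 * (w x)⁻¹ * w x = 2 * 1
        rw [mul_assoc, inv_mul_cancel₀ (hw0 x)]
      have hWD : Matrix.diagonal w * D = (2 : F) • 1 := by
        rw [← hDW, hD, diagonal_mul_diagonal, diagonal_mul_diagonal]
        exact congrArg _ (funext fun x => mul_comm _ _)
      have e1 : T' * D * T'ᵀ * Matrix.diagonal w * T' = D * Matrix.diagonal w * T' := by
        calc T' * D * T'ᵀ * Matrix.diagonal w * T' = T' * D * (T'ᵀ * Matrix.diagonal w * T') := by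
              simp only [Matrix.mul_assoc]
          _ = T' * (D * Matrix.diagonal w) := by rw [← hTD, Matrix.mul_assoc]
          _ = D * Matrix.diagonal w * T' := by rw [hDW, Matrix.mul_smul, Matrix.smul_mul, Matrix.one_mul, Matrix.mul_one]
      have e1' := congrArg (fun Z => Z * T'⁻¹) e1
      simp only [mul_nonsing_inv_cancel_right _ _ hT0] at e1'
      have e2 := congrArg (fun Z => Z * D) e1'
      simp only [Matrix.mul_assoc, hWD, Matrix.mul_smul, Matrix.mul_one] at e2
      have e3 := congrArg (fun Z => (2 : F)⁻¹ • Z) e2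
      simpa only [smul_smul, inv_mul_cancel₀ h2, one_smul, ← Matrix.mul_assoc] using e3
    calc A * (Y * D * (Yᵀ * J)) = Y * T' * D * (T'ᵀ * (Yᵀ * J * A)) := by
          rw [h1, ← hAY]; simp only [Matrix.mul_assoc]
      _ = Y * (T' * D * T'ᵀ) * (Yᵀ * J * A) := by simp only [Matrix.mul_assoc]
      _ = Y * D * (Yᵀ * J) * A := by rw [h3]; simp only [Matrix.mul_assoc]
  · have hne : K.det * (2 : F) ^ i ≠ 0 := mul_ne_zero hK (pow_ne_zero _ h2)
    refine ⟨hne, ?_⟩
    rw [hs]
    have hp : ∏ x, matQuad M (v x) = K.det / (2 : F) ^ i := by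
      rw [Finset.prod_congr rfl fun x _ => hQv x, Finset.prod_div_distrib, ← det_diagonal, hwd, Finset.prod_const,
        Finset.card_univ, Fintype.card_fin]
    have e : (∏ x, matQuad M (v x)) * (2 : F) ^ i * (2 : F) ^ i = K.det * (2 : F) ^ i := by
      rw [hp, div_mul_cancel₀ _ (pow_ne_zero _ h2)]
    have h4 := sqMk_mul_sq (t := (2 : F) ^ i) (Finset.prod_ne_zero_iff.2 fun x _ => hv x)
      (by rw [e]; exact hne)
    rw [← h4]
    congr 1

/-- Two odd chains with a nonsquare product of Gram determinants. -/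
theorem isSquare_of_chains (h2 : (2 : F) ≠ 0) {M : Matrix κ κ F} (hQ : (polarBilin (matQuad M)).Nondegenerate)
    (hR : reflGroup (matQuad M) = orth (matQuad M)) {y : Cfsg.isometryGroup F ⇑(matQuad M)}
    (hsplit : ∀ g, Commute y g → detHom ⇑(matQuad M) g = 1 → g ∈ Cfsg.Omega F ⇑(matQuad M))
    {A : Matrix κ κ F} (hy : ((y : Matrix.GeneralLinearGroup κ F) : Matrix κ κ F) = A)
    (hA : Aᵀ * (M + Mᵀ) * A = M + Mᵀ) {i j : ℕ} (hi : Odd i) (hj : Odd j)
    {Q₁ : Matrix κ (Fin i) F} {T₁ : Matrix (Fin i) (Fin i) F} (h₁ : A * Q₁ = Q₁ * T₁)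
    (hK₁ : (Q₁ᵀ * (M + Mᵀ) * Q₁).det ≠ 0)
    {Q₂ : Matrix κ (Fin j) F} {T₂ : Matrix (Fin j) (Fin j) F} (h₂ : A * Q₂ = Q₂ * T₂)
    (hK₂ : (Q₂ᵀ * (M + Mᵀ) * Q₂).det ≠ 0) :
    IsSquare ((Q₁ᵀ * (M + Mᵀ) * Q₁).det * (Q₂ᵀ * (M + Mᵀ) * Q₂).det) := by
  obtain ⟨g₁, c₁, d₁, n₁, s₁⟩ := exists_chain_involution h2 hQ hR hA h₁ hK₁
  obtain ⟨g₂, c₂, d₂, n₂, s₂⟩ := exists_chain_involution h2 hQ hR hA h₂ hK₂
  have hc : ∀ g : Cfsg.isometryGroup F ⇑(matQuad M),
      A * ((g : Matrix.GeneralLinearGroup κ F) : Matrix κ κ F) =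
        ((g : Matrix.GeneralLinearGroup κ F) : Matrix κ κ F) * A → Commute y g := fun g hg =>
    Subtype.ext (Units.ext (by simpa only [Subgroup.coe_mul, Units.val_mul, hy] using hg))
  have hm := hsplit (g₁ * g₂) ((hc _ c₁).mul_right (hc _ c₂)) (by
    rw [map_mul, d₁, d₂, ← pow_add, (Odd.add_odd hi hj).neg_one_pow])
  rw [mem_Omega_iff_invariant hQ hR, map_mul, map_mul] at hm
  have h := congrArg Prod.fst hm
  rw [Prod.fst_mul, s₁, s₂, ← sqMk_mul, Prod.fst_one, sqMk_eq_one_iff] at h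
  obtain ⟨k, hk⟩ := Odd.add_odd hi hj
  rw [show (Q₁ᵀ * (M + Mᵀ) * Q₁).det * 2 ^ i * ((Q₂ᵀ * (M + Mᵀ) * Q₂).det * 2 ^ j) =
    (Q₁ᵀ * (M + Mᵀ) * Q₁).det * (Q₂ᵀ * (M + Mᵀ) * Q₂).det * ((2 : F) ^ (i + j)) by ring, hk, pow_add,
    ← mul_assoc] at h
  obtain ⟨z, hz⟩ := h
  have hk0 : (2 : F) ^ k ≠ 0 := pow_ne_zero _ h2
  exact ⟨z / (2 : F) ^ k, by field_simp; linear_combination hz⟩

end Involution

end CfsgLib.FgsC.FormClasses
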