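import Cfsg.Agent.Lib.FgsC.FormClasses.Count

/-!
Codes with one bit for each block size, and the numerical bounds in odd dimension.
-/

set_option autoImplicit false
set_option linter.unusedSectionVars false

namespace CfsgLib.FgsC.FormClasses

open Polynomial Finset

universe u

/-- The block sizes carrying a class. -/
def evenB (i : ℕ) : Bool := decide (i % 2 = 0)

/-- The bit positions of reduced codes. -/
def bitSet (l : Fin 4) : ℕ → Bool := if l = 0 ∨ l = 2 then evenB else fun _ => false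

/-- Shapes of reduced codes. -/
def shapes2 (N : ℕ) : Finset ((Fin N → Fin (N + 1)) × (Fin N → Fin 4 → Bool)) :=
  (shapes N evenB).filter fun z => ∀ i l, z.2 i l = true → l = 0 ∨ l = 2

/-- The reduced shapes without a first degree. -/
def shapes2Zero (N : ℕ) : Finset ((Fin N → Fin (N + 1)) × (Fin N → Fin 4 → Bool)) :=
  (shapes2 N).filter fun z => ∀ i : Fin N, (i : ℕ) = 0 → (z.1 i : ℕ) = 0

/-- Reduced codes. -/
def IsCode2 (N : ℕ) (F : Type u) [Field F] (z : (Fin N → F[X]) × (Fin N → Fin 4 → Bool)) : Prop :=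
  IsCode N (1 : F) z ∧ (∀ i l, z.2 i l = true → evenB i = true ∧ (l = 0 ∨ l = 2)) ∧
    ∀ i : Fin N, (i : ℕ) = 0 → (z.1 i).eval 1 ≠ 0 ∧ (z.1 i).eval (-1) ≠ 0

section Poly

variable {F : Type u} [Field F] [Fintype F] {N : ℕ}

/-- A self-reciprocal polynomial of degree `2 M` without roots `±1`, and its coefficients. -/
def FreeCoeffs (M : ℕ) (c : Fin M → F) : Prop :=
  ∃ f : F[X], f.Monic ∧ f.coeff 0 = 1 ∧ SUClasses.tl (RingHom.id F) f = f ∧ f.natDegree = 2 * M ∧
    f.eval 1 ≠ 0 ∧ f.eval (-1) ≠ 0 ∧ ∀ k : Fin M, f.coeff ((k : ℕ) + 1) = c k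

theorem coeff_symm {f : F[X]} (hf : SUClasses.tl (RingHom.id F) f = f) (h0 : f.coeff 0 = 1) {k : ℕ}
    (hk : k ≤ f.natDegree) : f.coeff (f.natDegree - k) = f.coeff k := by
  have e1 := congrArg (fun g : F[X] => g.coeff k) hf
  simp only [SUClasses.coeff_tl _ hk] at e1
  simp only [h0, map_one, inv_one, one_mul, RingHom.id_apply] at e1
  exact e1

/-- The first coefficients with the values at `±1` determine the polynomial. -/
theorem card_freeCoeffs_le (h3 : Fintype.card F = 3) (M : ℕ) :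
    9 * Nat.card {c : Fin M → F // FreeCoeffs M c} ≤ 4 * 3 ^ M + (if M = 0 then 5 else 0) := by
  classical
  have h2 : (2 : F) ≠ 0 := by
    intro e
    have hc : ((Fintype.card F : ℕ) : F) = 0 := Nat.cast_card_eq_zero F
    rw [h3] at hc
    exact one_ne_zero (show (1 : F) = 0 by linear_combination hc - e)
  rcases M with _ | _ | M
  · simp only [pow_zero, if_pos]
    have : Nat.card {c : Fin 0 → F // FreeCoeffs 0 c} ≤ 1 := by
      rw [Finite.card_le_one_iff_subsingleton]
      infer_instance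
    omega
  · have hle : Nat.card {c : Fin 1 → F // FreeCoeffs 1 c} ≤ 1 := by
      rw [Finite.card_le_one_iff_subsingleton]
      refine ⟨fun ⟨a, ha⟩ ⟨b, hb⟩ => Subtype.ext (funext fun k => ?_)⟩
      have key : ∀ c : Fin 1 → F, FreeCoeffs 1 c → c 0 = 0 := by
        rintro c ⟨f, hm, h0, -, hd, e1, e2, hc⟩
        have hc0 := hc 0
        simp only [Fin.val_zero, Nat.zero_add] at hc0
        rw [← hc0]
        rw [eval_eq_sum_range, hd] at e1 e2
        have hlc : f.coeff 2 = 1 := by rw [show (2 : ℕ) = f.natDegree by rw [hd]]; exact hm.coeff_natDegree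
        simp only [Nat.mul_one, Finset.sum_range_succ, Finset.sum_range_zero, h0, hlc] at e1 e2
        by_contra hne
        -- the three field elements are `0`, `1`, `-1`
        have huniv : ({0, 1, -1} : Finset F) = Finset.univ := by
          refine Finset.eq_univ_of_card _ ?_
          rw [h3, Finset.card_eq_three]
          exact ⟨0, 1, -1, zero_ne_one, (neg_ne_zero.2 one_ne_zero).symm,
            fun e => h2 (by linear_combination e), rfl⟩
        have h3' : (3 : F) = 0 := by
          have hc : ((Fintype.card F : ℕ) : F) = 0 := Nat.cast_card_eq_zero F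
          rw [h3] at hc
          exact_mod_cast hc
        have := huniv.ge (Finset.mem_univ (f.coeff 1))
        simp only [Finset.mem_insert, Finset.mem_singleton] at this
        rcases this with e | e | e
        · exact hne e
        · rw [e] at e1; exact e1 (by linear_combination h3')
        · rw [e] at e2; exact e2 (by linear_combination h3')
      have : k = 0 := Subsingleton.elim _ _
      rw [this]
      exact (key a ha).trans (key b hb).symm
    show 9 * Nat.card {c : Fin 1 → F // FreeCoeffs 1 c} ≤ _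
    rw [if_neg (show (0 + 1 : ℕ) ≠ 0 by omega)]
    omega
  · choose f hm h0 hf hd e1 e2 hc using fun c : {c : Fin (M + 2) → F // FreeCoeffs (M + 2) c} => c.2
    have hle : Nat.card {c : Fin (M + 2) → F // FreeCoeffs (M + 2) c} ≤ 3 ^ M * 4 := by
      let g : {c : Fin (M + 2) → F // FreeCoeffs (M + 2) c} → (Fin M → F) × (Fˣ × Fˣ) := fun c =>
        (fun k => c.1 ⟨k, by omega⟩, Units.mk0 _ (e1 c), Units.mk0 _ (e2 c))
      refine (Nat.card_le_card_of_injective g fun a b h => ?_).trans (le_of_eq ?_)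
      · simp only [g, Prod.ext_iff, Units.ext_iff, Units.val_mk0] at h
        obtain ⟨hlo, hv1, hv2⟩ := h
        obtain ⟨x, hx⟩ : ∃ x, x = (f a).coeff (M + 1) - (f b).coeff (M + 1) := ⟨_, rfl⟩
        obtain ⟨y, hy⟩ : ∃ y, y = (f a).coeff (M + 2) - (f b).coeff (M + 2) := ⟨_, rfl⟩
        have hsmall : ∀ k, k ≤ M → (f a).coeff k = (f b).coeff k := by
          intro k hk
          rcases k with _ | k
          · rw [h0, h0]
          · have := congrFun hlo ⟨k, by omega⟩
            simp only [← hc] at this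
            exact this
        have hdiff : f a - f b = C x * (X ^ (M + 1) + X ^ (M + 3)) + C y * X ^ (M + 2) := by
          refine Polynomial.ext fun k => ?_
          simp only [coeff_sub, coeff_add, coeff_C_mul, coeff_X_pow]
          have hsa := coeff_symm (hf a) (h0 a) (k := M + 1) (by rw [hd]; omega)
          have hsb := coeff_symm (hf b) (h0 b) (k := M + 1) (by rw [hd]; omega)
          rw [hd, show 2 * (M + 2) - (M + 1) = M + 3 by omega] at hsa hsb
          rcases Nat.lt_trichotomy k (M + 2) with hk | rfl | hk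
          · rcases Nat.eq_or_lt_of_le (Nat.le_of_lt_succ hk) with rfl | hk'
            · simp [hx]
            · rw [hsmall k (by omega), if_neg (by omega), if_neg (by omega), if_neg (by omega)]; ring
          · simp [hy]
          · rcases Nat.eq_or_lt_of_le (show M + 3 ≤ k from hk) with rfl | hk'
            · simp [hx, hsa, hsb]
            · rw [if_neg (by omega), if_neg (by omega), if_neg (by omega)]
              rcases le_or_gt k (2 * (M + 2)) with hk2 | hk2
              · have sa := coeff_symm (hf a) (h0 a) (k := 2 * (M + 2) - k) (by rw [hd]; omega)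
                have sb := coeff_symm (hf b) (h0 b) (k := 2 * (M + 2) - k) (by rw [hd]; omega)
                rw [hd, show 2 * (M + 2) - (2 * (M + 2) - k) = k by omega] at sa sb
                rw [sa, sb, hsmall _ (by omega)]; ring
              · rw [coeff_eq_zero_of_natDegree_lt (by rw [hd]; exact hk2),
                  coeff_eq_zero_of_natDegree_lt (by rw [hd]; exact hk2)]; ring
        have k1 := congrArg (fun p : F[X] => p.eval 1) hdiff
        have k2 := congrArg (fun p : F[X] => p.eval (-1)) hdiff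
        simp only [eval_sub, eval_add, eval_mul, eval_C, eval_pow, eval_X, one_pow, hv1, hv2, sub_self] at k1 k2
        rw [show M + 3 = (M + 1) + 2 by omega, show M + 2 = (M + 1) + 1 by omega, pow_add (-1 : F) (M + 1) 2,
          pow_add (-1 : F) (M + 1) 1] at k2
        have hx0 : x = 0 := by
          have hpm : (-1 : F) ^ (M + 1) ≠ 0 := pow_ne_zero _ (neg_ne_zero.2 one_ne_zero)
          have k2' : 2 * x - y = 0 := by
            refine (mul_eq_zero.1 ?_).resolve_left hpm
            linear_combination -k2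
          exact (mul_eq_zero.1 (show (2 * 2) * x = 0 by linear_combination k2' - k1)).resolve_left (mul_ne_zero h2 h2)
        have hy0 : y = 0 := by linear_combination -k1 - 2 * hx0
        have hab : f a = f b := by rw [← sub_eq_zero, hdiff, hx0, hy0]; simp
        exact Subtype.ext (funext fun k => by rw [← hc a, ← hc b, hab])
      · rw [Nat.card_prod, Nat.card_prod, Nat.card_fun, Nat.card_fin, Nat.card_eq_fintype_card,
          Nat.card_eq_fintype_card, Fintype.card_units, h3]
    rw [if_neg (by omega)]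
    calc 9 * _ ≤ 9 * (3 ^ M * 4) := Nat.mul_le_mul_left 9 hle
      _ = 4 * 3 ^ (M + 2) + 0 := by ring

/-- The reduced codes inject into shapes with coefficients. -/
theorem code2_bound :
    ∃ (_ : Finite {z // IsCode2 N F z}), Nat.card {z // IsCode2 N F z} ≤
      ∑ y ∈ shapes2 N, ∏ i : Fin N, Nat.card {c : Fin (y.1 i : ℕ) → F // (i : ℕ) = 0 → FreeCoeffs (y.1 i : ℕ) c} := by
  classical
  have hle : ∀ (z : {z // IsCode2 N F z}) (i : Fin N), (z.1.1 i).natDegree / 2 < N + 1 := fun z i => by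
    have h := Finset.single_le_sum (f := fun i : Fin N => ((i : ℕ) + 1) * ((z.1.1 i).natDegree + ∑ l, bw (z.1.2 i l)))
      (fun _ _ => Nat.zero_le _) (Finset.mem_univ i)
    rw [z.2.1.weight] at h
    have h1 : (z.1.1 i).natDegree + ∑ l, bw (z.1.2 i l) ≤
        ((i : ℕ) + 1) * ((z.1.1 i).natDegree + ∑ l, bw (z.1.2 i l)) := Nat.le_mul_of_pos_left _ (Nat.succ_pos _)
    omega
  let sh : {z // IsCode2 N F z} → (Fin N → Fin (N + 1)) × (Fin N → Fin 4 → Bool) :=
    fun z => (fun i => ⟨(z.1.1 i).natDegree / 2, hle z i⟩, z.1.2)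
  have hev : ∀ (z : {z // IsCode2 N F z}) i, 2 * ((z.1.1 i).natDegree / 2) = (z.1.1 i).natDegree := fun z i =>
    Nat.two_mul_div_two_of_even (z.2.1.even i)
  have hsh : ∀ z, sh z ∈ shapes2 N := fun z => by
    refine Finset.mem_filter.2 ⟨Finset.mem_filter.2 ⟨Finset.mem_univ _, ?_, fun i l h => (z.2.2.1 i l h).1⟩,
      fun i l h => (z.2.2.1 i l h).2⟩
    refine Eq.trans (Finset.sum_congr rfl fun i _ => ?_) z.2.1.weight
    congr 2
    exact hev z i
  let f : {z // IsCode2 N F z} → Σ y : shapes2 N, (i : Fin N) →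
      {c : Fin (y.1.1 i : ℕ) → F // (i : ℕ) = 0 → FreeCoeffs (y.1.1 i : ℕ) c} :=
    fun z => ⟨⟨sh z, hsh z⟩, fun i => ⟨fun k => (z.1.1 i).coeff ((k : ℕ) + 1), fun hi =>
      ⟨z.1.1 i, z.2.1.monic i, z.2.1.coeff0 i, z.2.1.fixed i, (hev z i).symm, (z.2.2.2 i hi).1, (z.2.2.2 i hi).2,
        fun k => rfl⟩⟩⟩
  have hinj : Function.Injective f := by
    intro z w h
    have h1 : sh z = sh w := congrArg (fun y => y.1.1) h
    have hb : z.1.2 = w.1.2 := (Prod.ext_iff.1 h1).2
    let proj : (Σ y : shapes2 N, (i : Fin N) →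
        {c : Fin (y.1.1 i : ℕ) → F // (i : ℕ) = 0 → FreeCoeffs (y.1.1 i : ℕ) c}) → Fin N → ℕ → F :=
      fun y i k => if hk : k < (y.1.1.1 i : ℕ) then (y.2 i).1 ⟨k, hk⟩ else 0
    refine Subtype.ext (Prod.ext (funext fun i => ?_) hb)
    have hd : (z.1.1 i).natDegree / 2 = (w.1.1 i).natDegree / 2 :=
      congrArg Fin.val (congrFun (congrArg Prod.fst h1) i)
    have hd' : (z.1.1 i).natDegree = (w.1.1 i).natDegree := by rw [← hev z i, ← hev w i, hd]
    have hlo : ∀ k, k ≤ (z.1.1 i).natDegree / 2 → (z.1.1 i).coeff k = (w.1.1 i).coeff k := by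
      intro k hk
      rcases k with _ | k
      · rw [z.2.1.coeff0, w.2.1.coeff0]
      · have h2 := congrFun (congrFun (congrArg proj h) i) k
        simp only [proj, f, sh] at h2
        rwa [dif_pos (show k < (z.1.1 i).natDegree / 2 by omega),
          dif_pos (show k < (w.1.1 i).natDegree / 2 by omega)] at h2
    refine Polynomial.ext fun k => ?_
    rcases le_or_gt k ((z.1.1 i).natDegree / 2) with hk | hk
    · exact hlo k hk
    rcases le_or_gt k (z.1.1 i).natDegree with hk2 | hk2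
    · have e1 := coeff_symm (z.2.1.fixed i) (z.2.1.coeff0 i) (k := (z.1.1 i).natDegree - k) (by omega)
      have e2 := coeff_symm (w.2.1.fixed i) (w.2.1.coeff0 i) (k := (w.1.1 i).natDegree - k) (by omega)
      rw [show (z.1.1 i).natDegree - ((z.1.1 i).natDegree - k) = k by omega] at e1
      rw [show (w.1.1 i).natDegree - ((w.1.1 i).natDegree - k) = k by omega] at e2
      rw [e1, e2, ← hd']
      exact hlo _ (by omega)
    · rw [coeff_eq_zero_of_natDegree_lt hk2, coeff_eq_zero_of_natDegree_lt (hd' ▸ hk2)]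
  refine ⟨Finite.of_injective f hinj, (Nat.card_le_card_of_injective f hinj).trans (le_of_eq ?_)⟩
  rw [Nat.card_sigma, ← Finset.sum_coe_sort (shapes2 N)]
  exact Finset.sum_congr rfl fun y _ => Nat.card_pi

theorem code2_finite : Finite {z // IsCode2 N F z} := (code2_bound (F := F) (N := N)).choose

theorem card_code2_le :
    Nat.card {z // IsCode2 N F z} ≤ ∑ y ∈ shapes2 N, Fintype.card F ^ ∑ i, (y.1 i : ℕ) := by
  obtain ⟨-, h⟩ := code2_bound (F := F) (N := N)
  refine h.trans (Finset.sum_le_sum fun y _ => ?_)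
  rw [← Finset.prod_pow_eq_pow_sum]
  refine Finset.prod_le_prod' fun i _ => ?_
  refine (Nat.card_le_card_of_injective _ Subtype.val_injective).trans (le_of_eq ?_)
  rw [Nat.card_fun, Nat.card_fin, Nat.card_eq_fintype_card]

/-- At three elements the first polynomial has few choices. -/
theorem card_code2_le_three (h3 : Fintype.card F = 3) (hN : 0 < N) :
    9 * Nat.card {z // IsCode2 N F z} ≤ 4 * (∑ y ∈ shapes2 N, 3 ^ ∑ i, (y.1 i : ℕ)) +
      5 * ∑ y ∈ shapes2Zero N, 3 ^ ∑ i, (y.1 i : ℕ) := by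
  classical
  obtain ⟨-, h⟩ := code2_bound (F := F) (N := N)
  refine (Nat.mul_le_mul_left 9 h).trans ?_
  rw [Finset.mul_sum, Finset.mul_sum, Finset.mul_sum, shapes2Zero, Finset.sum_filter, ← Finset.sum_add_distrib]
  refine Finset.sum_le_sum fun y _ => ?_
  let i0 : Fin N := ⟨0, hN⟩
  have hrest : ∀ i ∈ Finset.univ.erase i0,
      Nat.card {c : Fin (y.1 i : ℕ) → F // (i : ℕ) = 0 → FreeCoeffs (y.1 i : ℕ) c} ≤ 3 ^ (y.1 i : ℕ) := fun i _ => by
    refine (Nat.card_le_card_of_injective _ Subtype.val_injective).trans (le_of_eq ?_)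
    rw [Nat.card_fun, Nat.card_fin, Nat.card_eq_fintype_card, h3]
  have h0 : Nat.card {c : Fin (y.1 i0 : ℕ) → F // (i0 : ℕ) = 0 → FreeCoeffs (y.1 i0 : ℕ) c} =
      Nat.card {c : Fin (y.1 i0 : ℕ) → F // FreeCoeffs (y.1 i0 : ℕ) c} :=
    Nat.card_congr (Equiv.subtypeEquivRight fun c => ⟨fun h => h rfl, fun h _ => h⟩)
  have hiff : (∀ i : Fin N, (i : ℕ) = 0 → (y.1 i : ℕ) = 0) ↔ (y.1 i0 : ℕ) = 0 :=
    ⟨fun h => h i0 rfl, fun h i hi => by rw [show i = i0 from Fin.ext hi]; exact h⟩
  rw [← Finset.mul_prod_erase _ _ (Finset.mem_univ i0), ← Finset.prod_pow_eq_pow_sum,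
    ← Finset.mul_prod_erase _ (fun i => 3 ^ (y.1 i : ℕ)) (Finset.mem_univ i0), h0, ← mul_assoc]
  refine (Nat.mul_le_mul (card_freeCoeffs_le h3 _) (Finset.prod_le_prod' hrest)).trans (le_of_eq ?_)
  by_cases hz : (y.1 i0 : ℕ) = 0
  · rw [if_pos hz, if_pos (hiff.2 hz), hz]; ring
  · rw [if_neg hz, if_neg (mt hiff.1 hz)]; ring

end Poly

/-- The normalised sums decrease in the number of elements. -/
theorem sum_pow_mono {N n q r : ℕ} (hN : N = 2 * n + 1) (hr : r ≤ q)
    {S : Finset ((Fin N → Fin (N + 1)) × (Fin N → Fin 4 → Bool))} {s : ℕ → Bool} (hS : S ⊆ shapes N s) :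
    (∑ y ∈ S, q ^ ∑ i, (y.1 i : ℕ)) * r ^ n ≤ (∑ y ∈ S, r ^ ∑ i, (y.1 i : ℕ)) * q ^ n := by
  rw [Finset.sum_mul, Finset.sum_mul]
  refine Finset.sum_le_sum fun y hy => ?_
  have hw := (Finset.mem_filter.1 (hS hy)).2.1
  have he : ∑ i, (y.1 i : ℕ) ≤ n := by
    have h : 2 * ∑ i, (y.1 i : ℕ) ≤ N := by
      conv_rhs => rw [← hw]
      rw [Finset.mul_sum]
      exact Finset.sum_le_sum fun i _ =>
        le_trans (Nat.le_add_right _ _) (Nat.le_mul_of_pos_left _ (Nat.succ_pos _))
    omega
  obtain ⟨k, hk⟩ := Nat.le.dest he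
  rw [← hk, pow_add, pow_add, mul_left_comm (r ^ _) (q ^ _)]
  exact Nat.mul_le_mul_left _ (Nat.mul_le_mul_left _ (Nat.pow_le_pow_left hr k))

/-! ### The generating sums -/

section Series

/-- Weight of a reduced shape. -/
def shapeW2 (N : ℕ) (t : ℝ) (f : Fin N → Fin (N + 1) × (Fin 4 → Bool)) : ℝ :=
  ∏ i : Fin N, (degW t i (f i).1 * ∏ l, bitW (bitSet l) t i ((f i).2 l))

/-- The product of the reduced series. -/
def prodW2 (N : ℕ) (t : ℝ) : ℝ :=
  ∏ i : Fin N, ((∑ M : Fin (N + 1), degW t i M) * (bitW evenB t i true + 1) ^ 2)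

theorem sum_shapeW2 (N : ℕ) (t : ℝ) : ∑ f, shapeW2 N t f = prodW2 N t := by
  rw [prodW2]
  simp only [shapeW2]
  refine (Fintype.prod_sum fun (i : Fin N) (p : Fin (N + 1) × (Fin 4 → Bool)) =>
    degW t i p.1 * ∏ l, bitW (bitSet l) t i (p.2 l)).symm.trans ?_
  refine Finset.prod_congr rfl fun i _ => ?_
  rw [Fintype.sum_prod_type, Finset.sum_mul]
  refine Finset.sum_congr rfl fun M _ => ?_
  dsimp only
  rw [← Finset.mul_sum, ← Fintype.prod_sum fun (l : Fin 4) (b : Bool) => bitW (bitSet l) t i b]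
  congr 1
  simp only [Fintype.sum_bool, Fin.prod_univ_four]
  simp [bitW, bitSet, sq]

theorem shapeW2_nonneg {t : ℝ} (ht : 0 ≤ t) (N : ℕ) (f) : 0 ≤ shapeW2 N t f := by
  refine Finset.prod_nonneg fun i _ => mul_nonneg ?_ (Finset.prod_nonneg fun l _ => ?_)
  · unfold degW; split_ifs <;> positivity
  · unfold bitW; split_ifs <;> positivity

theorem shapeW2_neg_le {t : ℝ} (ht : 0 ≤ t) (N : ℕ) (f) : shapeW2 N (-t) f ≤ shapeW2 N t f := by
  refine le_of_abs_le ?_
  rw [shapeW2, Finset.abs_prod]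
  refine le_of_eq (Finset.prod_congr rfl fun i _ => ?_)
  rw [abs_mul, Finset.abs_prod]
  congr 1
  · unfold degW
    rw [neg_sq]
    split_ifs <;> simp
  · refine Finset.prod_congr rfl fun l _ => ?_
    unfold bitW
    split_ifs <;> simp [abs_pow, abs_of_nonneg ht]

theorem prodW2_neg_nonneg (N : ℕ) (t : ℝ) : 0 ≤ prodW2 N (-t) := by
  refine Finset.prod_nonneg fun i _ => mul_nonneg (Finset.sum_nonneg fun M _ => ?_) (sq_nonneg _)
  unfold degW
  split_ifs <;> positivity

/-- A set of shapes of odd weight. -/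
theorem sum_odd_le {t : ℝ} (ht : 0 ≤ t) (N : ℕ) (U : Finset (Fin N → Fin (N + 1) × (Fin 4 → Bool)))
    (hU : ∀ f ∈ U, shapeW2 N (-t) f = -shapeW2 N t f) : 2 * ∑ f ∈ U, shapeW2 N t f ≤ prodW2 N t := by
  have h1 : ∑ f ∈ U, (shapeW2 N t f - shapeW2 N (-t) f) ≤ ∑ f, (shapeW2 N t f - shapeW2 N (-t) f) :=
    Finset.sum_le_sum_of_subset_of_nonneg (Finset.subset_univ _) fun f _ _ =>
      sub_nonneg.2 (shapeW2_neg_le ht N f)
  rw [Finset.sum_congr rfl fun f hf => by rw [hU f hf, sub_neg_eq_add, ← two_mul], ← Finset.mul_sum,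
    Finset.sum_sub_distrib, sum_shapeW2, sum_shapeW2] at h1
  have := prodW2_neg_nonneg N t
  linarith

theorem shapeW2_forget {N : ℕ} {z : (Fin N → Fin (N + 1)) × (Fin N → Fin 4 → Bool)} (hz : z ∈ shapes2 N) (t : ℝ) :
    shapeW2 N t (forget z) * (t ^ 2) ^ ∑ i, (z.1 i : ℕ) = t ^ N := by
  obtain ⟨hz1, hl⟩ := Finset.mem_filter.1 hz
  obtain ⟨hw, hs⟩ := (Finset.mem_filter.1 hz1).2
  have hbit : shapeW2 N t (forget z) = ∏ i : Fin N, t ^ (2 * ((i : ℕ) * (z.1 i : ℕ)) + ∑ l, ((i : ℕ) + 1) * bw (z.2 i l)) := by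
    refine Finset.prod_congr rfl fun i _ => ?_
    rw [pow_add, ← Finset.prod_pow_eq_pow_sum]
    congr 1
    · by_cases hi : (i : ℕ) = 0 <;> simp [forget, degW, hi, ← pow_mul]
    · refine Finset.prod_congr rfl fun l _ => ?_
      cases hb : z.2 i l
      · simp [forget, bitW, hb, bw]
      · have h1 := hs i l hb
        simp [forget, bitW, bitSet, hb, bw, hl i l hb, h1]
  rw [hbit, Finset.prod_pow_eq_pow_sum, ← pow_mul, ← pow_add]
  congr 1
  conv_rhs => rw [← hw]
  rw [Finset.mul_sum, ← Finset.sum_add_distrib]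
  refine Finset.sum_congr rfl fun i _ => ?_
  rw [← Finset.mul_sum]
  ring

theorem forget_neg {N : ℕ} {z : (Fin N → Fin (N + 1)) × (Fin N → Fin 4 → Bool)} (hz : z ∈ shapes2 N) (hN : Odd N)
    {t : ℝ} (ht : t ≠ 0) : shapeW2 N (-t) (forget z) = -shapeW2 N t (forget z) := by
  have h1 := shapeW2_forget hz t
  have h2 := shapeW2_forget hz (-t)
  rw [hN.neg_pow, neg_sq, ← h1, ← neg_mul] at h2
  exact mul_right_cancel₀ (pow_ne_zero _ (pow_ne_zero _ ht)) h2

theorem forget_value {N q : ℕ} {z : (Fin N → Fin (N + 1)) × (Fin N → Fin 4 → Bool)} (hz : z ∈ shapes2 N) {t : ℝ}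
    (htq : t ^ 2 * q = 1) : (q : ℝ) ^ (∑ i, (z.1 i : ℕ)) * t ^ N = shapeW2 N t (forget z) := by
  rw [← shapeW2_forget hz t, mul_left_comm, ← mul_pow, mul_comm (q : ℝ), htq, one_pow, mul_one]

theorem sum_shapes2_le {N q : ℕ} (hN : Odd N) {t : ℝ} (ht : 0 < t) (htq : t ^ 2 * q = 1) :
    2 * (((∑ y ∈ shapes2 N, q ^ ∑ i, (y.1 i : ℕ) : ℕ) : ℝ) * t ^ N) ≤ prodW2 N t := by
  classical
  push_cast
  rw [Finset.sum_mul, Finset.sum_congr rfl fun z hz => forget_value hz htq,
    ← Finset.sum_image ((forget_injOn N evenB).mono (by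
      intro z hz
      exact Finset.mem_coe.2 (Finset.filter_subset _ _ (Finset.mem_coe.1 hz))))]
  refine sum_odd_le ht.le N _ fun f hf => ?_
  obtain ⟨z, hz, rfl⟩ := Finset.mem_image.1 hf
  exact forget_neg hz hN ht.ne'

/-- The total size recorded by a shape. -/
def totalW {N : ℕ} (f : Fin N → Fin (N + 1) × (Fin 4 → Bool)) : ℕ :=
  ∑ i : Fin N, ((i : ℕ) + 1) * (2 * ((f i).1 : ℕ) + ∑ l, bw ((f i).2 l))

/-- Shapes without a first degree, raised at the second block size, and the two smallest shapes. -/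
theorem sum_zero_le {N q : ℕ} (hN : Odd N) (hN5 : 5 ≤ N) {t : ℝ} (ht : 0 < t) (htq : t ^ 2 * q = 1) :
    2 * (((∑ y ∈ shapes2Zero N, q ^ ∑ i, (y.1 i : ℕ) : ℕ) : ℝ) * t ^ N * (1 + t ^ 2 + t ^ 4) + 2 * t) ≤
      prodW2 N t := by
  classical
  let i0 : Fin N := ⟨0, by omega⟩
  let i1 : Fin N := ⟨1, by omega⟩
  have hmem : ∀ z ∈ shapes2Zero N, z ∈ shapes2 N ∧ (z.1 i0 : ℕ) = 0 ∧ totalW (forget z) = N ∧ (z.1 i1 : ℕ) + 2 ≤ N := by
    intro z hz
    obtain ⟨hz2, h0⟩ := Finset.mem_filter.1 hz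
    have hw := (Finset.mem_filter.1 (Finset.mem_filter.1 hz2).1).2.1
    refine ⟨hz2, h0 i0 rfl, ?_, ?_⟩
    · refine Eq.trans (Finset.sum_congr rfl fun i _ => ?_) hw
      by_cases hi : (i : ℕ) = 0
      · simp [forget, hi, h0 i hi]
      · simp [forget, hi]
    · have := (Finset.single_le_sum (f := fun i : Fin N => ((i : ℕ) + 1) * (2 * (z.1 i : ℕ) + ∑ l, bw (z.2 i l)))
        (fun _ _ => Nat.zero_le _) (Finset.mem_univ i1)).trans_eq hw
      change (1 + 1) * (2 * (z.1 i1 : ℕ) + _) ≤ N at this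
      omega
  let A := {z // z ∈ shapes2Zero N} × Fin 3 ⊕ Fin 2
  let g : A → Fin N → Fin (N + 1) × (Fin 4 → Bool) := fun a => Sum.elim
    (fun p => Function.update (forget p.1.1) i1
      (⟨(p.1.1.1 i1 : ℕ) + p.2, by have := (hmem _ p.1.2).2.2.2; omega⟩, p.1.1.2 i1))
    (fun b i => ((0 : Fin (N + 1)), fun l => decide (i = i0 ∧ l = (![0, 2] : Fin 2 → Fin 4) b))) a
  have hv1 : ∀ (p : {z // z ∈ shapes2Zero N} × Fin 3) (s : ℝ),
      shapeW2 N s (g (Sum.inl p)) = shapeW2 N s (forget p.1.1) * (s ^ 2) ^ (p.2 : ℕ) := by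
    intro p s
    simp only [shapeW2, g, Sum.elim_inl]
    rw [show (s ^ 2) ^ (p.2 : ℕ) = ∏ i : Fin N, (if i = i1 then (s ^ 2) ^ (p.2 : ℕ) else 1) by
      rw [Finset.prod_ite_eq' Finset.univ i1, if_pos (Finset.mem_univ _)], ← Finset.prod_mul_distrib]
    refine Finset.prod_congr rfl fun i _ => ?_
    by_cases hi : i = i1
    · subst hi
      simp only [Function.update_self, forget, degW, show (i1 : ℕ) = 1 from rfl, Nat.one_ne_zero, if_false, one_mul,
        pow_add, if_true]
      ring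
    · rw [Function.update_of_ne hi, if_neg hi, mul_one]
  have ht1 : ∀ (p : {z // z ∈ shapes2Zero N} × Fin 3), totalW (g (Sum.inl p)) = N + 4 * (p.2 : ℕ) := by
    intro p
    conv_rhs => arg 1; rw [← (hmem _ p.1.2).2.2.1]
    simp only [totalW, g, Sum.elim_inl]
    rw [show 4 * (p.2 : ℕ) = ∑ i : Fin N, (if i = i1 then 4 * (p.2 : ℕ) else 0) by
      rw [Finset.sum_ite_eq' Finset.univ i1, if_pos (Finset.mem_univ _)], ← Finset.sum_add_distrib]
    refine Finset.sum_congr rfl fun i _ => ?_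
    by_cases hi : i = i1
    · subst hi
      simp only [Function.update_self, forget, show (i1 : ℕ) = 1 from rfl, Nat.one_ne_zero, if_false, if_true]
      ring
    · rw [Function.update_of_ne hi, if_neg hi, add_zero]
  have hv2 : ∀ (b : Fin 2) (s : ℝ), shapeW2 N s (g (Sum.inr b)) = s := by
    intro b s
    simp only [shapeW2, g, Sum.elim_inr]
    rw [Finset.prod_eq_single i0]
    · fin_cases b <;> simp [i0, degW, bitW, bitSet, evenB, Fin.prod_univ_four]
    · intro i _ hi
      simp [hi, degW, bitW]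
    · simp
  have ht2 : ∀ b : Fin 2, totalW (g (Sum.inr b)) = 1 := by
    intro b
    simp only [totalW, g, Sum.elim_inr]
    rw [Finset.sum_eq_single i0]
    · fin_cases b <;> simp [i0, bw, Fin.sum_univ_four]
    · intro i _ hi
      simp [hi, bw]
    · simp
  have hginj : Function.Injective g := by
    rintro (p | b) (p' | b') h
    · have h4 := congrArg totalW h
      rw [ht1, ht1] at h4
      have hj : p.2 = p'.2 := Fin.ext (by omega)
      refine congrArg Sum.inl (Prod.ext (Subtype.ext (Prod.ext (funext fun i => ?_) (funext fun i => ?_))) hj)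
      · by_cases hi : i = i1
        · subst hi
          have := congrArg (fun f : Fin N → Fin (N + 1) × (Fin 4 → Bool) => ((f i1).1 : ℕ)) h
          simp only [g, Sum.elim_inl, Function.update_self] at this
          exact Fin.ext (by omega)
        · by_cases hi0 : (i : ℕ) = 0
          · rw [show i = i0 from Fin.ext hi0]
            exact Fin.ext ((hmem _ p.1.2).2.1.trans (hmem _ p'.1.2).2.1.symm)
          · have := congrArg (fun f : Fin N → Fin (N + 1) × (Fin 4 → Bool) => (f i).1) h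
            simpa [g, Function.update_of_ne hi, forget, hi0] using this
      · have := congrArg (fun f : Fin N → Fin (N + 1) × (Fin 4 → Bool) => (f i).2) h
        by_cases hi : i = i1
        · subst hi; simpa [g] using this
        · simpa [g, Function.update_of_ne hi, forget] using this
    · have := congrArg totalW h
      rw [ht1, ht2] at this
      omega
    · have := congrArg totalW h
      rw [ht1, ht2] at this
      omega
    · have := congrArg (fun f : Fin N → Fin (N + 1) × (Fin 4 → Bool) => (f i0).2) h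
      fin_cases b <;> fin_cases b' <;> first | rfl | (exfalso; simpa [g] using congrFun this 0)
  have h := sum_odd_le ht.le N (Finset.univ.image g) (by
    intro f hf
    obtain ⟨a, -, rfl⟩ := Finset.mem_image.1 hf
    rcases a with p | b
    · rw [hv1, hv1, neg_sq, forget_neg (hmem _ p.1.2).1 hN ht.ne', neg_mul]
    · rw [hv2, hv2])
  rw [Finset.sum_image fun a _ b _ e => hginj e, Fintype.sum_sum_type, Fintype.sum_prod_type] at h
  simp only [hv1, hv2, Fin.sum_univ_three, Fin.sum_univ_two] at h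
  refine le_trans (le_of_eq ?_) h
  push_cast
  rw [← Finset.sum_coe_sort (shapes2Zero N), Finset.sum_mul, Finset.sum_mul]
  congr 1
  rw [two_mul t]
  congr 1
  refine Finset.sum_congr rfl fun z _ => ?_
  rw [forget_value (hmem _ z.2).1 htq]
  simp only [Fin.val_zero, Fin.val_one, Fin.val_two, pow_zero, pow_one]
  ring

/-- A product bounded by a sum. -/
theorem prod_one_add_le (y : ℕ → ℝ) (hy : ∀ i, 0 ≤ y i) {B : ℝ} (hB : B < 1) (k : ℕ)
    (hs : ∑ i ∈ range k, y i ≤ B) : ∏ i ∈ range k, (1 + y i) ≤ 1 / (1 - B) := by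
  have key : ∀ j, ∑ i ∈ range j, y i ≤ B → (∏ i ∈ range j, (1 + y i)) * (1 - ∑ i ∈ range j, y i) ≤ 1 := by
    intro j hj
    induction j with
    | zero => simp
    | succ j ih =>
      rw [Finset.sum_range_succ] at hj ⊢
      rw [Finset.prod_range_succ, mul_assoc]
      have hs0 : 0 ≤ ∑ i ∈ range j, y i := Finset.sum_nonneg fun i _ => hy i
      refine le_trans (mul_le_mul_of_nonneg_left ?_ (Finset.prod_nonneg fun i _ => by have := hy i; linarith))
        (ih (by have := hy j; linarith))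
      nlinarith [hy j, mul_nonneg (hy j) hs0, mul_nonneg (hy j) (hy j)]
  rw [le_div_iff₀ (by linarith)]
  exact le_trans (mul_le_mul_of_nonneg_left (by linarith) (Finset.prod_nonneg fun i _ => by
    have := hy i; linarith)) (key k hs)

theorem geom_quarter (k : ℕ) : ∑ i ∈ range k, (1 / 4 : ℝ) ^ i ≤ 4 / 3 :=
  (geom_le (by norm_num) (by norm_num) k).trans (by norm_num)

theorem bitProd_odd (t : ℝ) (n k : ℕ) :
    ∏ i : Fin (2 * n + 1), (bitW evenB t i true + 1) ^ k = (∏ j ∈ range (n + 1), (1 + t * (t ^ 2) ^ j)) ^ k := by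
  rw [Fin.prod_univ_eq_prod_range (fun i => (bitW evenB t i true + 1) ^ k), Finset.prod_pow]
  congr 1
  induction n with
  | zero => simp [bitW, evenB, add_comm]
  | succ n ih =>
    rw [show 2 * (n + 1) + 1 = 2 * n + 1 + 1 + 1 by ring, Finset.prod_range_succ _ (2 * n + 1 + 1),
      Finset.prod_range_succ _ (2 * n + 1), ih, Finset.prod_range_succ _ (n + 1)]
    have h1 : evenB (2 * n + 1) = false := by simp [evenB]
    have h3 : evenB (2 * n + 1 + 1) = true := by simp [evenB]; omega
    simp only [bitW, h1, h3, if_true, Bool.false_eq_true, if_false]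
    rw [← pow_mul]
    ring

theorem degProd_quarter (N : ℕ) : ∏ i : Fin N, ∑ M : Fin (N + 1), degW (1 / 2 : ℝ) i M ≤ 14532 / 10000 := by
  let y : ℕ → ℝ := fun i => if i = 0 then 0 else (1 / 4) ^ i / (1 - (1 / 4) ^ i)
  have hpow : ∀ i : ℕ, i ≠ 0 → (1 / 4 : ℝ) ^ i < 1 := fun i hi => pow_lt_one₀ (by norm_num) (by norm_num) hi
  have hy : ∀ i, 0 ≤ y i := fun i => by
    simp only [y]
    split_ifs with hi
    · exact le_rfl
    · exact div_nonneg (by positivity) (sub_nonneg.2 (hpow i hi).le)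
  have hle : ∀ i : Fin N, ∑ M : Fin (N + 1), degW (1 / 2 : ℝ) i M ≤ 1 + y i := by
    intro i
    by_cases hi : (i : ℕ) = 0
    · simp [degW, y, hi, Fin.sum_univ_succ]
    · simp only [degW, y, if_neg hi, pow_mul]
      rw [Fin.sum_univ_eq_sum_range (fun M => (((1 / 2 : ℝ) ^ 2) ^ (i : ℕ)) ^ M), show (1 / 2 : ℝ) ^ 2 = 1 / 4 by norm_num]
      refine (geom_le (by positivity) (hpow i hi) _).trans (le_of_eq ?_)
      rw [eq_comm, add_div_eq_mul_add_div _ _ (sub_pos.2 (hpow i hi)).ne', one_mul, sub_add_cancel]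
  refine (Finset.prod_le_prod (fun i _ => Finset.sum_nonneg fun M _ => by
    unfold degW; split_ifs <;> positivity) fun i _ => hle i).trans ?_
  rw [Fin.prod_univ_eq_prod_range (fun i => 1 + y i) N]
  refine (Finset.prod_le_prod_of_subset_of_one_le (Finset.range_subset_range.2 (show N ≤ 3 + N by omega))
    (fun i _ => by have := hy i; linarith) fun i _ _ => le_add_of_nonneg_right (hy i)).trans ?_
  rw [Finset.prod_range_add]
  have htail : ∏ i ∈ range N, (1 + y (3 + i)) ≤ 1 / (1 - 4 / 189) := by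
    refine prod_one_add_le _ (fun i => hy _) (by norm_num) N ?_
    refine (Finset.sum_le_sum (g := fun i => (1 / 63 : ℝ) * (1 / 4) ^ i) fun i _ => ?_).trans ?_
    · simp only [y, if_neg (show 3 + i ≠ 0 by omega), pow_add]
      rw [div_le_iff₀ (by
        have := hpow (3 + i) (by omega)
        rw [pow_add] at this
        linarith)]
      have h1 : (1 / 4 : ℝ) ^ i ≤ 1 := pow_le_one₀ (by norm_num) (by norm_num)
      have h0 : (0 : ℝ) ≤ (1 / 4 : ℝ) ^ i := by positivity
      nlinarith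
    · rw [← Finset.mul_sum]
      have := geom_quarter N
      linarith
  have h3 : ∏ i ∈ range 3, (1 + y i) = 4 / 3 * (16 / 15) := by norm_num [Finset.prod_range_succ, y]
  rw [h3]
  linarith

theorem oddBits_half (n : ℕ) : ∏ j ∈ range n, (1 + (1 / 2 : ℝ) * ((1 / 2) ^ 2) ^ j) ≤ 17610 / 10000 := by
  refine (Finset.prod_le_prod_of_subset_of_one_le (Finset.range_subset_range.2 (show n ≤ 2 + n by omega))
    (fun i _ => by positivity) fun i _ _ => le_add_of_nonneg_right (by positivity)).trans ?_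
  rw [Finset.prod_range_add]
  have htail : ∏ i ∈ range n, (1 + (1 / 2 : ℝ) * ((1 / 2) ^ 2) ^ (2 + i)) ≤ 1 / (1 - 1 / 24) := by
    refine prod_one_add_le _ (fun i => by positivity) (by norm_num) n ?_
    simp only [pow_add, ← mul_assoc, ← Finset.mul_sum, show ((1 / 2 : ℝ) ^ 2) = 1 / 4 by norm_num]
    have := geom_quarter n
    linarith
  have h2 : ∏ j ∈ range 2, (1 + (1 / 2 : ℝ) * ((1 / 2) ^ 2) ^ j) = 27 / 16 := by norm_num [Finset.prod_range_succ]
  rw [h2]
  linarith

end Series

end CfsgLib.FgsC.FormClasses
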