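import Mathlib.Data.Finite.Sum
import Mathlib.GroupTheory.GroupAction.CardCommute
import Mathlib.GroupTheory.IndexNormal
import Mathlib.Tactic.Group
import Mathlib.Tactic.Ring

/-!
Classes of a subgroup of index two, and of a subgroup with a central complement of order two.
-/

set_option autoImplicit false

namespace CfsgLib.FgsC.FormClasses

universe u

variable {G : Type u} [Group G] [Finite G]

/-- Pairs of commuting elements with the first in a union of classes. -/
theorem card_commute_filter (P : G → Prop) (hP : ∀ g x, P x → P (g * x * g⁻¹)) :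
    Nat.card {p : G × G // Commute p.1 p.2 ∧ P p.1} =
      Nat.card {C : ConjClasses G // P C.out} * Nat.card G := by
  classical
  have hc : ∀ x : G, ∃ g : G, g * (ConjClasses.mk x).out * g⁻¹ = x := fun x =>
    isConj_iff.1 (ConjClasses.mk_eq_mk_iff_isConj.1 (Quotient.out_eq (ConjClasses.mk x)))
  choose t ht using hc
  have hout : ∀ x, P x → P (ConjClasses.mk x).out := fun x hx => by
    have := hP (t x)⁻¹ x hx
    have h := ht x
    generalize t x = s at h this
    generalize (ConjClasses.mk x).out = y at h ⊢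
    rw [← h] at this
    rwa [show s⁻¹ * (s * y * s⁻¹) * s⁻¹⁻¹ = y by group] at this
  rw [← Nat.card_prod]
  refine Nat.card_congr
    { toFun := fun p => (⟨ConjClasses.mk p.1.1, hout _ p.2.2⟩, p.1.2 * t p.1.1)
      invFun := fun q => ⟨(q.2 * q.1.1.out * q.2⁻¹, q.2 * (t (q.2 * q.1.1.out * q.2⁻¹))⁻¹), ?_, hP _ _ q.1.2⟩
      left_inv := fun p => ?_
      right_inv := fun q => ?_ }
  · obtain ⟨⟨C, hC⟩, g⟩ := q
    show Commute (g * C.out * g⁻¹) (g * (t (g * C.out * g⁻¹))⁻¹)
    have hmk : ConjClasses.mk (g * C.out * g⁻¹) = C :=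
      (ConjClasses.mk_eq_mk_iff_isConj.2 (isConj_iff.2 ⟨g⁻¹, by group⟩)).trans (Quotient.out_eq C)
    have h := ht (g * C.out * g⁻¹)
    rw [hmk] at h
    generalize t (g * C.out * g⁻¹) = s at h ⊢
    show g * C.out * g⁻¹ * (g * s⁻¹) = g * s⁻¹ * (g * C.out * g⁻¹)
    conv_rhs => rw [← h]
    group
  · obtain ⟨⟨x, y⟩, hxy, hx⟩ := p
    have hxy' : x * y = y * x := hxy
    have e : y * t x * (ConjClasses.mk x).out * (y * t x)⁻¹ = x := by
      rw [show y * t x * (ConjClasses.mk x).out * (y * t x)⁻¹ = y * (t x * (ConjClasses.mk x).out * (t x)⁻¹) * y⁻¹ by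
        group, ht, ← hxy', mul_inv_cancel_right]
    refine Subtype.ext ?_
    show (_, _) = (x, y)
    rw [e, mul_inv_cancel_right]
  · obtain ⟨⟨C, hC⟩, g⟩ := q
    have hmk : ConjClasses.mk (g * C.out * g⁻¹) = C :=
      (ConjClasses.mk_eq_mk_iff_isConj.2 (isConj_iff.2 ⟨g⁻¹, by group⟩)).trans (Quotient.out_eq C)
    refine Prod.ext (Subtype.ext hmk) ?_
    exact inv_mul_cancel_right g _

/-- A class is split in a subgroup if its centralizer lies in it. -/
abbrev SplitIn (H : Subgroup G) (x : G) : Prop := x ∈ H ∧ ∀ y, Commute x y → y ∈ H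

/-- The classes of a subgroup of index two. -/
theorem two_mul_card_classes_index_two (H : Subgroup G) (hH : H.index = 2) :
    2 * Nat.card (ConjClasses H) =
      Nat.card (ConjClasses G) + 3 * Nat.card {C : ConjClasses G // SplitIn H C.out} := by
  classical
  haveI := Subgroup.normal_of_index_eq_two hH
  have hm : ∀ {a b : G}, a * b ∈ H ↔ (a ∈ H ↔ b ∈ H) := fun {a b} => Subgroup.mul_mem_iff_of_index_two hH
  have hcard : 2 * Nat.card H = Nat.card G := by rw [← H.index_mul_card, hH]
  have hinv : ∀ g x, SplitIn H x → SplitIn H (g * x * g⁻¹) := by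
    rintro g x ⟨hx, hc⟩
    refine ⟨Subgroup.Normal.conj_mem inferInstance x hx g, fun y hy => ?_⟩
    have h1 : Commute x (g⁻¹ * y * g) := by
      have := hy.map (MulAut.conj g⁻¹).toMonoidHom
      simpa [mul_assoc] using this
    have := Subgroup.Normal.conj_mem (inferInstance : H.Normal) _ (hc _ h1) g
    simpa [mul_assoc] using this
  let P := {p : G × G // Commute p.1 p.2}
  let A := {p : G × G // Commute p.1 p.2 ∧ p.1 ∈ H ∧ p.2 ∈ H}
  let B := {p : G × G // Commute p.1 p.2 ∧ p.1 ∈ H ∧ p.2 ∉ H}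
  let B' := {p : G × G // Commute p.1 p.2 ∧ p.1 ∉ H ∧ p.2 ∈ H}
  let D := {p : G × G // Commute p.1 p.2 ∧ p.1 ∉ H ∧ p.2 ∉ H}
  let S := {p : G × G // Commute p.1 p.2 ∧ SplitIn H p.1}
  have e1 : Nat.card B' = Nat.card B := Nat.card_congr
    { toFun := fun p => ⟨(p.1.2, p.1.1), p.2.1.symm, p.2.2.2, p.2.2.1⟩
      invFun := fun p => ⟨(p.1.2, p.1.1), p.2.1.symm, p.2.2.2, p.2.2.1⟩
      left_inv := fun _ => rfl
      right_inv := fun _ => rfl }
  have e2 : Nat.card D = Nat.card B := Nat.card_congr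
    { toFun := fun p => ⟨(p.1.1 * p.1.2, p.1.2), p.2.1.mul_left (Commute.refl _),
        hm.2 (iff_of_false p.2.2.1 p.2.2.2), p.2.2.2⟩
      invFun := fun p => ⟨(p.1.1 * p.1.2⁻¹, p.1.2), p.2.1.mul_left (Commute.refl _).inv_left,
        fun h => p.2.2.2 (inv_mem_iff.1 ((hm.1 h).1 p.2.2.1)), p.2.2.2⟩
      left_inv := fun p => Subtype.ext (Prod.ext (mul_inv_cancel_right _ _) rfl)
      right_inv := fun p => Subtype.ext (Prod.ext (inv_mul_cancel_right _ _) rfl) }
  have hP : Nat.card P = Nat.card A + Nat.card B + (Nat.card B' + Nat.card D) := by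
    haveI : Finite A := inferInstance
    haveI : Finite B := inferInstance
    haveI : Finite B' := inferInstance
    haveI : Finite D := inferInstance
    rw [← Nat.card_sum, ← Nat.card_sum, ← Nat.card_sum]
    refine Nat.card_congr
      { toFun := fun p => if h1 : p.1.1 ∈ H then
            (if h2 : p.1.2 ∈ H then Sum.inl (Sum.inl ⟨p.1, p.2, h1, h2⟩) else Sum.inl (Sum.inr ⟨p.1, p.2, h1, h2⟩))
          else (if h2 : p.1.2 ∈ H then Sum.inr (Sum.inl ⟨p.1, p.2, h1, h2⟩) else Sum.inr (Sum.inr ⟨p.1, p.2, h1, h2⟩))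
        invFun := Sum.elim (Sum.elim (fun p => ⟨p.1, p.2.1⟩) (fun p => ⟨p.1, p.2.1⟩))
          (Sum.elim (fun p => ⟨p.1, p.2.1⟩) (fun p => ⟨p.1, p.2.1⟩))
        left_inv := fun p => by dsimp only; split_ifs <;> rfl
        right_inv := fun p => by
          rcases p with (p | p) | (p | p) <;> simp [p.2.2.1, p.2.2.2] }
  have hns : ∀ x : {x : G // x ∈ H ∧ ¬ SplitIn H x}, ∃ y, Commute x.1 y ∧ y ∉ H := fun x => by
    by_contra h
    push Not at h
    exact x.2.2 ⟨x.2.1, h⟩
  choose y0 hy0 using hns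
  have hA : Nat.card A = Nat.card S + Nat.card B := by
    rw [← Nat.card_sum]
    have hB : ∀ p : B, ¬ SplitIn H p.1.1 := fun p h => p.2.2.2 (h.2 _ p.2.1)
    refine Nat.card_congr
      { toFun := fun p => if h : SplitIn H p.1.1 then Sum.inl ⟨p.1, p.2.1, h⟩
          else Sum.inr ⟨(p.1.1, p.1.2 * y0 ⟨p.1.1, p.2.2.1, h⟩), p.2.1.mul_right (hy0 ⟨p.1.1, p.2.2.1, h⟩).1, p.2.2.1,
            fun h' => (hy0 _).2 ((hm.1 h').1 p.2.2.2)⟩
        invFun := Sum.elim (fun p => ⟨p.1, p.2.1, p.2.2.1, p.2.2.2 p.1.2 p.2.1⟩)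
          (fun p => ⟨(p.1.1, p.1.2 * (y0 ⟨p.1.1, p.2.2.1, hB p⟩)⁻¹),
            p.2.1.mul_right (hy0 ⟨p.1.1, p.2.2.1, hB p⟩).1.inv_right, p.2.2.1,
            hm.2 (iff_of_false p.2.2.2 fun h' => (hy0 _).2 (inv_mem_iff.1 h'))⟩)
        left_inv := fun p => by
          dsimp only
          split_ifs with h
          · rfl
          · exact Subtype.ext (Prod.ext rfl (mul_inv_cancel_right _ _))
        right_inv := fun p => by
          rcases p with p | p
          · dsimp only [Sum.elim_inl]; rw [dif_pos p.2.2]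
          · simp [hB p] }
  have hk := card_comm_eq_card_conjClasses_mul_card G
  have hkH := card_comm_eq_card_conjClasses_mul_card H
  have hS : Nat.card S = _ := card_commute_filter (SplitIn H) hinv
  have hAH : Nat.card {p : H × H // Commute p.1 p.2} = Nat.card A := Nat.card_congr
    { toFun := fun p => ⟨(p.1.1.1, p.1.2.1), congrArg Subtype.val p.2.eq, p.1.1.2, p.1.2.2⟩
      invFun := fun p => ⟨(⟨p.1.1, p.2.2.1⟩, ⟨p.1.2, p.2.2.2⟩), Subtype.ext p.2.1.eq⟩
      left_inv := fun _ => rfl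
      right_inv := fun _ => rfl }
  rw [hAH] at hkH
  change Nat.card P = _ at hk
  have hpos : 0 < Nat.card G := Nat.card_pos
  refine Nat.eq_of_mul_eq_mul_right hpos ?_
  rw [add_mul, mul_assoc 3, ← hk, ← hS, hP, e1, e2, ← hcard]
  calc 2 * Nat.card (ConjClasses H) * (2 * Nat.card H) = 4 * Nat.card A := by rw [hkH]; ring
    _ = _ := by rw [hA]; omega

/-- The classes of a group with a central involution outside a subgroup of index two. -/
theorem classes_central_complement (S : Subgroup G) (hS : S.index = 2) {e : G} (he : e ∈ Subgroup.center G)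
    (hee : e * e = 1) (heS : e ∉ S) :
    ∃ f : Bool × ConjClasses S → ConjClasses G, Function.Bijective f ∧
      ∀ b c, f (b, c) = ConjClasses.mk (if b then e * ((c.out : S) : G) else ((c.out : S) : G)) := by
  classical
  have hc : ∀ g, e * g = g * e := fun g => (Subgroup.mem_center_iff.1 he g).symm
  have hm : ∀ {a b : G}, a * b ∈ S ↔ (a ∈ S ↔ b ∈ S) := fun {a b} => Subgroup.mul_mem_iff_of_index_two hS
  haveI := Subgroup.normal_of_index_eq_two hS
  let v : Bool → S → G := fun b s => if b then e * (s : G) else s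
  have hv : ∀ b s, v b s ∈ S ↔ b = false := by
    intro b s
    cases b
    · simp [v]
    · simpa [v] using fun h => heS ((hm.1 h).2 s.2)
  refine ⟨fun z => ConjClasses.mk (v z.1 z.2.out), ⟨?_, ?_⟩, fun b c => rfl⟩
  · rintro ⟨b, c⟩ ⟨b', c'⟩ h
    obtain ⟨g, hg⟩ := isConj_iff.1 (ConjClasses.mk_eq_mk_iff_isConj.1 h)
    obtain rfl : b = b' := by
      have h1 : v b c.out ∈ S ↔ v b' c'.out ∈ S := by
        rw [← hg]
        exact ⟨fun h => Subgroup.Normal.conj_mem inferInstance _ h g, fun h => by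
          simpa [mul_assoc] using Subgroup.Normal.conj_mem (inferInstance : S.Normal) _ h g⁻¹⟩
      rw [hv, hv] at h1
      cases b <;> cases b' <;> simp_all
    have hg' : g * (c.out : G) * g⁻¹ = (c'.out : G) := by
      cases b
      · exact hg
      · refine mul_left_cancel (a := e) ?_
        rw [show e * (g * (c.out : G) * g⁻¹) = g * (e * (c.out : G)) * g⁻¹ by
          rw [← mul_assoc g e, ← hc g]; simp only [mul_assoc]]
        exact hg
    refine Prod.ext rfl ?_
    rw [← Quotient.out_eq c, ← Quotient.out_eq c']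
    refine ConjClasses.mk_eq_mk_iff_isConj.2 (isConj_iff.2 ?_)
    by_cases hgS : g ∈ S
    · exact ⟨⟨g, hgS⟩, Subtype.ext hg'⟩
    · refine ⟨⟨e * g, hm.2 (iff_of_false heS hgS)⟩, Subtype.ext ?_⟩
      show e * g * (c.out : G) * (e * g)⁻¹ = _
      rw [hc g, mul_inv_rev, show g * e * (c.out : G) * (e⁻¹ * g⁻¹) = g * (e * (c.out : G) * e⁻¹) * g⁻¹ by group,
        hc (c.out : G), mul_inv_cancel_right, hg']
  · intro C
    obtain ⟨x, rfl⟩ := ConjClasses.mk_surjective C
    obtain ⟨b, s, hbs⟩ : ∃ (b : Bool) (s : S), v b s = x := by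
      by_cases hx : x ∈ S
      · exact ⟨false, ⟨x, hx⟩, rfl⟩
      · refine ⟨true, ⟨e * x, hm.2 (iff_of_false heS hx)⟩, ?_⟩
        show e * (e * x) = x
        rw [← mul_assoc, hee, one_mul]
    refine ⟨(b, ConjClasses.mk s), ?_⟩
    obtain ⟨g, hg⟩ := isConj_iff.1 (ConjClasses.mk_eq_mk_iff_isConj.1 (Quotient.out_eq (ConjClasses.mk s)))
    refine ConjClasses.mk_eq_mk_iff_isConj.2 (isConj_iff.2 ⟨(g : G), ?_⟩)
    rw [← hbs]
    have hg' : (g : G) * ((ConjClasses.mk s).out : G) * (g : G)⁻¹ = (s : G) := congrArg Subtype.val hg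
    cases b
    · exact hg'
    · show (g : G) * (e * _) * (g : G)⁻¹ = e * (s : G)
      rw [← mul_assoc, ← hc (g : G), mul_assoc e, mul_assoc e, hg']

theorem card_classes_central (S : Subgroup G) (hS : S.index = 2) {e : G} (he : e ∈ Subgroup.center G)
    (hee : e * e = 1) (heS : e ∉ S) : Nat.card (ConjClasses G) = 2 * Nat.card (ConjClasses S) := by
  obtain ⟨f, hf, -⟩ := classes_central_complement S hS he hee heS
  rw [← Nat.card_congr (Equiv.ofBijective f hf), Nat.card_prod, Nat.card_eq_fintype_card (α := Bool),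
    Fintype.card_bool]

/-- Split classes of the subgroup give twice as many classes of the group. -/
theorem two_mul_split_le (S : Subgroup G) (hS : S.index = 2) {e : G} (he : e ∈ Subgroup.center G) (hee : e * e = 1)
    (heS : e ∉ S) (D : Subgroup G) [D.Normal] :
    2 * Nat.card {c : ConjClasses S // SplitIn (D.subgroupOf S) c.out} ≤
      Nat.card {C : ConjClasses G // ∀ g, Commute C.out g → g ∈ S → g ∈ D} := by
  classical
  haveI := Subgroup.normal_of_index_eq_two hS
  obtain ⟨f, hf, hfv⟩ := classes_central_complement S hS he hee heS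
  have hinv : ∀ x y : G, IsConj x y → (∀ g, Commute x g → g ∈ S → g ∈ D) → ∀ g, Commute y g → g ∈ S → g ∈ D := by
    intro x y hxy h g hg hgS
    obtain ⟨k, rfl⟩ := isConj_iff.1 hxy
    have h1 : Commute x (k⁻¹ * g * k) := by
      have := hg.map (MulAut.conj k⁻¹).toMonoidHom
      simpa [mul_assoc] using this
    have h2 : k⁻¹ * g * k ∈ S := by
      simpa [mul_assoc] using Subgroup.Normal.conj_mem (inferInstance : S.Normal) g hgS k⁻¹
    simpa [mul_assoc] using Subgroup.Normal.conj_mem (inferInstance : D.Normal) _ (h _ h1 h2) k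
  rw [show (2 : ℕ) = Nat.card Bool by simp, ← Nat.card_prod]
  refine Nat.card_le_card_of_injective (fun z => ⟨f (z.1, z.2.1), ?_⟩)
    fun a b h => ?_
  · refine hinv (if z.1 then e * ((z.2.1.out : S) : G) else ((z.2.1.out : S) : G)) _ ?_ (fun g hg hgS => ?_)
    · exact ConjClasses.mk_eq_mk_iff_isConj.1 ((hfv _ _).symm.trans (Quotient.out_eq _).symm)
    · refine z.2.2.2 ⟨g, hgS⟩ (Subtype.ext ?_)
      show ((z.2.1.out : S) : G) * g = g * ((z.2.1.out : S) : G)
      rcases z with ⟨_ | _, z⟩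
      · exact hg.eq
      · have h1 : Commute e g := ((Subgroup.mem_center_iff.1 he g).symm : _)
        have := h1.inv_left.mul_left hg
        simpa using this.eq
  · have := hf.1 (congrArg Subtype.val h)
    obtain ⟨h1, h2⟩ := Prod.ext_iff.1 this
    exact Prod.ext h1 (Subtype.ext h2)

end CfsgLib.FgsC.FormClasses
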