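import Cfsg.Agent.Lib.FgsC.FormClasses.OrthLower

/-!
An orthogonal group in dimension `2n + 1` has at least `2 q^n` classes.
-/

set_option autoImplicit false

namespace CfsgLib.FgsC.FormClasses

open Matrix Polynomial

universe u

variable {F : Type u} [Field F] [Fintype F]

/-- Strip the roots `±2`. -/
theorem exists_decomp (h2 : (2 : F) ≠ 0) {g : F[X]} (hg : g.Monic) {n : ℕ} (hd : g.natDegree = n) :
    ∃ (a b : ℕ) (h : F[X]), g = (X - C 2) ^ a * ((X - C (-2)) ^ b * h) ∧ h.Monic ∧ h.natDegree + (a + b) = n ∧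
      h.eval 2 ≠ 0 ∧ h.eval (-2) ≠ 0 := by
  obtain ⟨g1, e1, n1⟩ := exists_eq_pow_rootMultiplicity_mul_and_not_dvd g hg.ne_zero 2
  generalize rootMultiplicity 2 g = a at e1
  have hm1 : g1.Monic := Monic.of_mul_monic_left ((monic_X_sub_C _).pow a) (e1 ▸ hg)
  obtain ⟨h, e2, n2⟩ := exists_eq_pow_rootMultiplicity_mul_and_not_dvd g1 hm1.ne_zero (-2)
  generalize rootMultiplicity (-2) g1 = b at e2
  have hm2 : h.Monic := Monic.of_mul_monic_left ((monic_X_sub_C _).pow b) (e2 ▸ hm1)
  refine ⟨a, b, h, by rw [e1, e2], hm2, ?_, ?_, fun hh => n2 (dvd_iff_isRoot.2 hh)⟩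
  · rw [← hd, e1, e2, Monic.natDegree_mul ((monic_X_sub_C _).pow _) (((monic_X_sub_C _).pow _).mul hm2),
      Monic.natDegree_mul ((monic_X_sub_C _).pow _) hm2, natDegree_pow, natDegree_pow, natDegree_X_sub_C,
      natDegree_X_sub_C]
    omega
  · intro hh
    refine n1 (dvd_iff_isRoot.2 ?_)
    rw [IsRoot, e2, eval_mul, hh, mul_zero]

theorem card_orth_odd_ge {κ : Type} [Fintype κ] [DecidableEq κ] {J : Matrix κ κ F} {G : Type u} [Group G] [Finite G]
    (φ : G →* Matrix κ κ F) (hodd : Odd (Fintype.card F)) {n : ℕ} (hκ : Fintype.card κ = 2 * n + 1)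
    (hJ : Jᵀ = J) (hJd : J.det ≠ 0)
    (hsur : ∀ A : Matrix κ κ F, Aᵀ * J * A = J → ∃ g, φ g = A) :
    2 * Fintype.card F ^ n ≤ Nat.card (ConjClasses G) := by
  classical
  have h2 := two_ne_zero_of_odd hodd
  have hreal : ∀ {I : Type} [Fintype I] [DecidableEq I] (A K : Matrix I I F), Fintype.card I = Fintype.card κ →
      Kᵀ = K → K.det ≠ 0 → Aᵀ * K * A = K → IsSquare (K.det * J.det) → ∃ g : G, (φ g).charpoly = A.charpoly := by
    intro I _ _ A K hI hKs hKd hA hsq
    let e : κ ≃ I := Fintype.equivOfCardEq hI.symm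
    obtain ⟨P, hP⟩ := CfsgLib.Geometry.GraphPSL.congr_of_disc h2 (J := K.submatrix e e) (J' := J)
      (by rw [transpose_submatrix, hKs]) hJ (by rwa [det_submatrix_equiv_self]) hJd
      (by rwa [det_submatrix_equiv_self])
    obtain ⟨A', hA'⟩ : ∃ A', A' = A.submatrix e e := ⟨_, rfl⟩
    have hA'K : A'ᵀ * K.submatrix e e * A' = K.submatrix e e := by
      rw [hA', transpose_submatrix, submatrix_mul_equiv, submatrix_mul_equiv, hA]
    obtain ⟨B, hB⟩ : ∃ B, B = ((P⁻¹ : GL κ F) : Matrix κ κ F) * A' * (P : Matrix κ κ F) := ⟨_, rfl⟩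
    have hPB : (P : Matrix κ κ F) * B = A' * (P : Matrix κ κ F) := by
      rw [hB, ← Matrix.mul_assoc, ← Matrix.mul_assoc, Units.mul_inv, Matrix.one_mul]
    obtain ⟨g, hg⟩ := hsur B (by
      calc Bᵀ * J * B = ((P : Matrix κ κ F) * B)ᵀ * K.submatrix e e * ((P : Matrix κ κ F) * B) := by
            rw [← hP, transpose_mul]; simp only [Matrix.mul_assoc]
        _ = (P : Matrix κ κ F)ᵀ * (A'ᵀ * K.submatrix e e * A') * (P : Matrix κ κ F) := by
            rw [hPB, transpose_mul]; simp only [Matrix.mul_assoc]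
        _ = J := by rw [hA'K, hP])
    refine ⟨g, ?_⟩
    rw [hg, hB, Matrix.coe_units_inv, Matrix.charpoly_units_conj', hA']
    show (Matrix.reindex e.symm e.symm A).charpoly = A.charpoly
    rw [Matrix.charpoly_reindex]
  let T := {g : F[X] // g.Monic ∧ g.natDegree = n} × Bool
  have hmain : ∀ y : T, ∃ (x : G) (a b : ℕ) (h f : F[X]),
      y.1.1 = (X - C 2) ^ a * ((X - C (-2)) ^ b * h) ∧ h.natDegree + (a + b) = n ∧
      f.eval 1 ≠ 0 ∧ f.eval (-1) ≠ 0 ∧
      (φ x).charpoly = (X - C (-1 : F)) ^ (2 * b + y.2.toNat) * (X - C 1) ^ (2 * a + 1 - y.2.toNat) * f ∧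
      ∀ (L : Type u) [Field L] [Algebra F L] (t : L), t ≠ 0 →
        aeval t f = t ^ h.natDegree * aeval (t + t⁻¹) h := by
    rintro ⟨⟨g, hg, hd⟩, ε⟩
    obtain ⟨a, b, h, e, hm, hdeg, h1, h1'⟩ := exists_decomp h2 hg hd
    obtain ⟨A, K, hKs, hA, ⟨w, hw, hK⟩, hev⟩ := exists_pair h hm rfl
    have hKd : K.det ≠ 0 := by
      rw [hK]
      exact mul_ne_zero (mul_ne_zero hw hw)
        (mul_ne_zero (pow_ne_zero _ (neg_ne_zero.2 one_ne_zero)) (mul_ne_zero h1 h1'))
    obtain ⟨r, hr⟩ : ∃ r, r = 2 * b + ε.toNat := ⟨_, rfl⟩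
    obtain ⟨r', hr'⟩ : ∃ r', r' = 2 * a + 1 - ε.toNat := ⟨_, rfl⟩
    have hεle : ε.toNat ≤ 1 := by cases ε <;> simp
    let s : Fin r ⊕ Fin r' → F := Sum.elim (fun _ => -1) (fun _ => 1)
    have hs : ∀ j, s j * s j = 1 := by rintro (j | j) <;> simp [s]
    have hne : Nonempty (Fin r ⊕ Fin r') := by
      rw [← Fintype.card_pos_iff, Fintype.card_sum, Fintype.card_fin, Fintype.card_fin]
      omega
    obtain ⟨j0⟩ := hne
    let D : Fin r ⊕ Fin r' → F := fun j => if j = j0 then K.det * J.det else 1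
    have hDd : (Matrix.diagonal D).det = K.det * J.det := by
      rw [det_diagonal, Finset.prod_ite_eq' Finset.univ j0, if_pos (Finset.mem_univ _)]
    obtain ⟨x, hx⟩ := hreal (fromBlocks A 0 0 (Matrix.diagonal s)) (fromBlocks K 0 0 (Matrix.diagonal D))
      (by rw [Fintype.card_sum, Fintype.card_sum, Fintype.card_sum, Fintype.card_fin, Fintype.card_fin,
        Fintype.card_fin, hκ]; omega)
      (by rw [fromBlocks_transpose, hKs, diagonal_transpose, transpose_zero, transpose_zero])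
      (by rw [det_fromBlocks_zero₂₁, hDd]; exact mul_ne_zero hKd (mul_ne_zero hKd hJd))
      (by
        rw [fromBlocks_transpose, fromBlocks_multiply, fromBlocks_multiply]
        simp only [transpose_zero, diagonal_transpose, Matrix.zero_mul, Matrix.mul_zero, add_zero, zero_add, hA,
          diagonal_mul_diagonal]
        congr 2
        funext j
        rw [mul_comm (s j) (D j), mul_assoc, hs, mul_one])
      (by rw [det_fromBlocks_zero₂₁, hDd]; exact ⟨K.det * J.det, by ring⟩)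
    refine ⟨x, a, b, h, A.charpoly, e, hdeg, ?_, ?_, ?_, hev⟩
    · rw [eval_sign hev (one_mul 1), one_pow, one_mul, one_add_one_eq_two]; exact h1
    · rw [eval_sign hev (by ring), show (-1 : F) + -1 = -2 by ring]
      exact mul_ne_zero (pow_ne_zero _ (neg_ne_zero.2 one_ne_zero)) h1'
    · rw [hx, charpoly_fromBlocks_zero₂₁, charpoly_diagonal, Fintype.prod_sum_type, mul_comm, ← hr, ← hr']
      simp [s]
  choose x a b h f hg hdeg hf1 hf2 hcp hev using hmain
  haveI := (card_monic (F := F) n).1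
  refine le_trans (le_of_eq ?_) (Nat.card_le_card_of_injective (fun y : T => ConjClasses.mk (x y)) fun y y' e => ?_)
  · rw [Nat.card_prod, (card_monic n).2, Nat.card_eq_fintype_card (α := Bool), Fintype.card_bool, mul_comm]
  obtain ⟨z, hz⟩ := isConj_iff.1 (ConjClasses.mk_eq_mk_iff_isConj.1 e)
  have e' : (φ (x y)).charpoly = (φ (x y')).charpoly := by
    rw [← hz, map_mul, map_mul]
    let Z : GL κ F := φ.toHomUnits z
    rw [show φ z = (Z : Matrix κ κ F) from rfl, show φ z⁻¹ = ((Z⁻¹ : GL κ F) : Matrix κ κ F) by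
      rw [← map_inv]; rfl, Matrix.coe_units_inv, Matrix.charpoly_units_conj]
  rw [hcp, hcp] at e'
  have hne : (-1 : F) ≠ 1 := fun h => h2 (by linear_combination -h)
  have m1 := congrArg (rootMultiplicity (-1 : F)) e'
  rw [rootMultiplicity_code hne (hf2 y), rootMultiplicity_code hne (hf2 y')] at m1
  have m2 := congrArg (rootMultiplicity (1 : F)) e'
  rw [mul_comm ((X - C (-1 : F)) ^ _) _, mul_comm ((X - C (-1 : F)) ^ _) _,
    rootMultiplicity_code hne.symm (hf1 y), rootMultiplicity_code hne.symm (hf1 y')] at m2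
  have hy := Bool.toNat_lt y.2
  have hy' := Bool.toNat_lt y'.2
  have hb : b y = b y' := by omega
  have hε : y.2 = y'.2 := by
    have : y.2.toNat = y'.2.toNat := by omega
    generalize y.2 = u at this ⊢
    generalize y'.2 = v at this ⊢
    cases u <;> cases v <;> simp_all
  have ha : a y = a y' := by rw [hε] at m2; omega
  rw [hb, hε, ha] at e'
  have hf : f y = f y' := mul_left_cancel₀ (mul_ne_zero (pow_ne_zero _ (X_sub_C_ne_zero _))
    (pow_ne_zero _ (X_sub_C_ne_zero _))) e'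
  have hh : h y = h y' := CfsgLib.KnownB.ClassCount.eq_of_aeval_eq _ _ fun t ht => by
    have hdy : (h y).natDegree = (h y').natDegree := by have := hdeg y; have := hdeg y'; omega
    refine mul_left_cancel₀ (pow_ne_zero (h y).natDegree ht) ?_
    rw [← hev y (AlgebraicClosure F) t ht, hf, hev y' (AlgebraicClosure F) t ht, hdy]
  exact Prod.ext (Subtype.ext (by rw [hg y, hg y', ha, hb, hh])) hε

end CfsgLib.FgsC.FormClasses
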