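import Cfsg.Agent.Lib.FgsC.FormClasses.Odd.Chain
import Cfsg.Agent.Lib.FgsC.FormClasses.OrthUpper

/-!
Classes lying in `Ω` with their centralizers are recorded by polynomials and one bit for each block size.
-/

set_option autoImplicit false
set_option linter.unusedSectionVars false

namespace CfsgLib.FgsC.FormClasses

open Matrix QuadraticMap CfsgLib.KnownB.JordanCent CfsgLib.Classical.Unitary CfsgLib.KnownB.UnitJordan
  CfsgLib.Geometry CfsgLib.FgsC.SUClasses

universe u

variable {F : Type u} [Field F] [Fintype F]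

local notation "idF" => RingHom.id F

theorem isSlot_one_iff (h2 : (2 : F) ≠ 0) (i : ℕ) : IsSlot (1 : F) i ↔ Odd (i + 1) := by
  rw [← slotB_eq_true, slotB_one h2, Nat.odd_add_one, Nat.not_odd_iff_even]

section Piece

variable {t : ℕ} {d : Fin t → ℕ}

theorem piece_nonslot {H : Matrix (Idx d) (Idx d) F} {i : ℕ} (hs : ¬ IsSlot (1 : F) i) :
    piece (1 : F) H i = (Fintype.card (Diag d (i + 1)) / 2, false, false) := by
  have : slotB (1 : F) i = false := Bool.eq_false_iff.2 fun h => hs (slotB_eq_true.1 h)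
  simp [piece, enc, this]

theorem piece_slot_small {H : Matrix (Idx d) (Idx d) F} {i : ℕ} (hs : IsSlot (1 : F) i)
    (hm : Fintype.card (Diag d (i + 1)) ≤ 1) :
    piece (1 : F) H i = (0, decide (Fintype.card (Diag d (i + 1)) = 1) && !cls (1 : F) H i, cls (1 : F) H i) ∧
      (cls (1 : F) H i = true → Fintype.card (Diag d (i + 1)) = 1) ∧
      (cls (1 : F) H i = true ↔ ¬ IsSquare (formG H (i + 1)).det) := by
  classical
  have hc : cls (1 : F) H i = true ↔ ¬ IsSquare (formG H (i + 1)).det := by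
    simp [cls, slotB_eq_true.2 hs]
  have h1 : cls (1 : F) H i = true → Fintype.card (Diag d (i + 1)) = 1 := by
    intro h
    rcases Nat.eq_zero_or_pos (Fintype.card (Diag d (i + 1))) with h0 | h0
    · haveI := Fintype.card_eq_zero_iff.1 h0
      exact absurd ⟨1, by rw [det_isEmpty, mul_one]⟩ (hc.1 h)
    · omega
  refine ⟨?_, h1, hc⟩
  rw [piece, slotB_eq_true.2 hs]
  rcases Nat.eq_zero_or_pos (Fintype.card (Diag d (i + 1))) with h0 | h0
  · have : cls (1 : F) H i = false := Bool.eq_false_iff.2 fun h => by have := h1 h; omega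
    simp [enc, h0, this]
  · have : Fintype.card (Diag d (i + 1)) = 1 := by omega
    cases cls (1 : F) H i <;> simp [enc, this]

/-- Whether a block size carries a class. -/
noncomputable def pres (H : Matrix (Idx d) (Idx d) F) (i : ℕ) : Bool :=
  (piece (1 : F) H i).2.1 || (piece (1 : F) H i).2.2

theorem exists_value (h2 : (2 : F) ≠ 0) {H : Matrix (Idx d) (Idx d) F} (hH : SForm idF 1 d H) {j : ℕ} (hj : Odd j)
    (hm : 2 ≤ Fintype.card (Diag d j)) {a : F} (ha : a ≠ 0) : ∃ u, u ⬝ᵥ (formG H j *ᵥ u) = a := by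
  classical
  obtain ⟨G, hG⟩ : ∃ G, G = formG H j := ⟨_, rfl⟩
  have hGs : Gᵀ = G := by
    rw [hG, hH.sign, one_mul, (show Even (j - 1) by obtain ⟨m, rfl⟩ := hj; simp).neg_one_pow, one_smul]
  have hGd : G.det ≠ 0 := hG ▸ formG_det_ne hH j
  obtain ⟨k0, k1, hne⟩ := Fintype.one_lt_card_iff.1 (show 1 < Fintype.card (Diag d j) by omega)
  obtain ⟨D, hD⟩ : ∃ D : Diag d j → F, D = fun k => if k = k0 then a else if k = k1 then a * G.det else 1 := ⟨_, rfl⟩
  have hdet : (Matrix.diagonal D).det = a * (a * G.det) := by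
    rw [det_diagonal, hD, ← Finset.mul_prod_erase _ _ (Finset.mem_univ k0), if_pos rfl,
      ← Finset.mul_prod_erase _ _ (Finset.mem_erase.2 ⟨hne.symm, Finset.mem_univ k1⟩), if_neg hne.symm, if_pos rfl,
      Finset.prod_eq_one fun k hk => ?_, mul_one]
    obtain ⟨h1, h2⟩ := Finset.mem_erase.1 hk
    rw [if_neg (Finset.mem_erase.1 h2).1, if_neg h1]
  obtain ⟨X, hX⟩ := exists_congr_matrix h2 (G := Matrix.diagonal D) (G' := G) (Or.inl rfl)
    (by rw [one_smul, diagonal_transpose]) (by rw [one_smul, hGs])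
    (by rw [hdet]; exact mul_ne_zero ha (mul_ne_zero ha hGd)) hGd
    (fun _ => ⟨a * G.det, by rw [hdet]; ring⟩)
  refine ⟨X *ᵥ Pi.single k0 1, ?_⟩
  rw [← hG, mulVec_mulVec, dotProduct_mulVec, ← vecMul_transpose, vecMul_vecMul, ← Matrix.mul_assoc, hX,
    ← dotProduct_mulVec, Matrix.diagonal_mulVec_single, mul_one, single_dotProduct, one_mul, Pi.single_eq_same, hD]
  simp

end Piece

variable {κ : Type} [Fintype κ] [DecidableEq κ] {A J : Matrix κ κ F}

/-- Multiplicity at a sign and block size. -/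
def Normal.mult (N : Normal (1 : F) A J) (b : Bool) (j : ℕ) : ℕ :=
  if b then Fintype.card (Diag N.dp j) else Fintype.card (Diag N.dm j)

/-- Determinant of the multiplicity form at a sign and block size. -/
noncomputable def Normal.sdet (N : Normal (1 : F) A J) (b : Bool) (j : ℕ) : F :=
  if b then (formG N.Hp j).det else (formG N.Hm j).det

theorem Normal.sdet_ne (N : Normal (1 : F) A J) (b : Bool) (j : ℕ) : N.sdet b j ≠ 0 := by
  cases b <;> simp only [Normal.sdet, if_pos, Bool.false_eq_true, if_false]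
  exacts [formG_det_ne N.hm j, formG_det_ne N.hp j]

/-- A chain of the normal form in the original coordinates. -/
theorem Normal.exists_chain (N : Normal (1 : F) A J) (b : Bool) {j : ℕ} :
    (∀ u : Diag N.dp j → F, b = true → ∃ (Qm : Matrix κ (Fin j) F) (T : Matrix (Fin j) (Fin j) F),
      A * Qm = Qm * T ∧ (Qmᵀ * J * Qm).det = wt F j * (u ⬝ᵥ (formG N.Hp j *ᵥ u)) ^ j) ∧
    (∀ u : Diag N.dm j → F, b = false → ∃ (Qm : Matrix κ (Fin j) F) (T : Matrix (Fin j) (Fin j) F),
      A * Qm = Qm * T ∧ (Qmᵀ * J * Qm).det = wt F j * (u ⬝ᵥ (formG N.Hm j *ᵥ u)) ^ j) := by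
  classical
  obtain ⟨Q, R, -, -, h3, h4⟩ := N.iso
  refine ⟨fun u _ => ?_, fun u _ => ?_⟩
  · refine ⟨Q * fromRows (chainE N.dp j u) (0 : Matrix (Idx N.dm ⊕ Fin N.r) (Fin j) F), (1 : F) • (1 + chainN F j), ?_, ?_⟩
    · rw [← Matrix.mul_assoc, h3, Matrix.mul_assoc, Matrix.mul_assoc, fromBlocks_mul_fromRows, fromRows_mul]
      congr 2
      · simp [Matrix.add_mul, Matrix.mul_add, shift_chainE]
      · simp
    · rw [← det_gram_chainE N.hp u]
      congr 1
      calc (Q * fromRows (chainE N.dp j u) (0 : Matrix (Idx N.dm ⊕ Fin N.r) (Fin j) F))ᵀ * J * (Q * fromRows (chainE N.dp j u) (0 : Matrix (Idx N.dm ⊕ Fin N.r) (Fin j) F))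
          = (fromRows (chainE N.dp j u) (0 : Matrix (Idx N.dm ⊕ Fin N.r) (Fin j) F))ᵀ * (Qᵀ * J * Q) * fromRows (chainE N.dp j u) (0 : Matrix (Idx N.dm ⊕ Fin N.r) (Fin j) F) := by
            rw [transpose_mul]; simp only [Matrix.mul_assoc]
        _ = _ := by
            rw [h4, Matrix.mul_assoc, fromBlocks_mul_fromRows, transpose_fromRows, fromCols_mul_fromRows]
            simp [Matrix.mul_assoc]
  · refine ⟨Q * fromRows (0 : Matrix (Idx N.dp) (Fin j) F) (fromRows (chainE N.dm j u) (0 : Matrix (Fin N.r) (Fin j) F)), (-1 : F) • (1 + chainN F j), ?_, ?_⟩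
    · rw [← Matrix.mul_assoc, h3, Matrix.mul_assoc, Matrix.mul_assoc, fromBlocks_mul_fromRows, fromRows_mul,
        fromRows_mul, fromBlocks_mul_fromRows]
      congr 2
      · simp
      · simp [Matrix.add_mul, Matrix.mul_add, shift_chainE, fromBlocks_mul_fromRows]
    · rw [← det_gram_chainE N.hm u]
      congr 1
      calc (Q * fromRows (0 : Matrix (Idx N.dp) (Fin j) F) (fromRows (chainE N.dm j u) (0 : Matrix (Fin N.r) (Fin j) F)))ᵀ * J * (Q * fromRows (0 : Matrix (Idx N.dp) (Fin j) F) (fromRows (chainE N.dm j u) (0 : Matrix (Fin N.r) (Fin j) F)))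
          = (fromRows (0 : Matrix (Idx N.dp) (Fin j) F) (fromRows (chainE N.dm j u) (0 : Matrix (Fin N.r) (Fin j) F)))ᵀ * (Qᵀ * J * Q) *
              fromRows (0 : Matrix (Idx N.dp) (Fin j) F) (fromRows (chainE N.dm j u) (0 : Matrix (Fin N.r) (Fin j) F)) := by
            rw [transpose_mul]; simp only [Matrix.mul_assoc]
        _ = _ := by
            rw [h4, Matrix.mul_assoc, fromBlocks_mul_fromRows, transpose_fromRows, fromCols_mul_fromRows,
              Matrix.zero_mul, Matrix.mul_zero, zero_add, fromBlocks_mul_fromRows, transpose_fromRows]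
            simp [fromCols_mul_fromRows, Matrix.mul_assoc]

/-- The conditions satisfied by the normal form of a class in `Ω` with its centralizer. -/
structure Normal.Tight (N : Normal (1 : F) A J) : Prop where
  small : ∀ b j, Odd j → N.mult b j ≤ 1
  rel : ∀ b b' j j', Odd j → Odd j' → N.mult b j = 1 → N.mult b' j' = 1 →
    IsSquare (wt F j * N.sdet b j * (wt F j' * N.sdet b' j'))

theorem isSquare_odd_pow {x y : F} (hy : y ≠ 0) {j : ℕ} (hj : Odd j) (h : IsSquare (x * y ^ j)) :
    IsSquare (x * y) := by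
  obtain ⟨m, rfl⟩ := hj
  refine (CfsgLib.Geometry.isSquare_mul_sq_iff (pow_ne_zero m hy)).1 ?_
  convert h using 1
  ring

theorem Normal.tight_of_split (h2 : (2 : F) ≠ 0) {M : Matrix κ κ F}
    (hQ : (polarBilin (matQuad M)).Nondegenerate) (hR : reflGroup (matQuad M) = orth (matQuad M))
    {y : Cfsg.isometryGroup F ⇑(matQuad M)}
    (hsplit : ∀ g, Commute y g → detHom ⇑(matQuad M) g = 1 → g ∈ Cfsg.Omega F ⇑(matQuad M))
    {B : Matrix κ κ F} (hy : ((y : Matrix.GeneralLinearGroup κ F) : Matrix κ κ F) = B)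
    (hB : Bᵀ * (M + Mᵀ) * B = M + Mᵀ) (N : Normal (1 : F) B (M + Mᵀ)) : N.Tight := by
  classical
  let Val : ℕ → F → Prop := fun j a => ∃ (Qm : Matrix κ (Fin j) F) (T : Matrix (Fin j) (Fin j) F),
    B * Qm = Qm * T ∧ (Qmᵀ * (M + Mᵀ) * Qm).det = wt F j * a ^ j
  have hrel : ∀ j j' a a', Odd j → Odd j' → a ≠ 0 → a' ≠ 0 → Val j a → Val j' a' →
      IsSquare (wt F j * a * (wt F j' * a')) := by
    rintro j j' a a' hj hj' ha ha' ⟨Q₁, T₁, h₁, e₁⟩ ⟨Q₂, T₂, h₂, e₂⟩
    have h := isSquare_of_chains h2 hQ hR hsplit hy hB hj hj' h₁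
      (by rw [e₁]; exact mul_ne_zero (wt_ne_zero j) (pow_ne_zero _ ha)) h₂
      (by rw [e₂]; exact mul_ne_zero (wt_ne_zero j') (pow_ne_zero _ ha'))
    rw [e₁, e₂, ← mul_assoc] at h
    have h1 := isSquare_odd_pow ha' hj' h
    rw [show wt F j * a ^ j * wt F j' * a' = wt F j * wt F j' * a' * a ^ j by ring] at h1
    have h2' := isSquare_odd_pow ha hj h1
    convert h2' using 1
    ring
  have hone : ∀ b j, N.mult b j = 1 → Val j (N.sdet b j) := by
    intro b j h1
    cases b
    · simp only [Normal.mult, Bool.false_eq_true, if_false] at h1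
      obtain ⟨k, hk⟩ := Fintype.card_eq_one_iff.1 h1
      obtain ⟨Qm, T, e1, e2⟩ := (N.exists_chain false (j := j)).2 (fun _ => 1) rfl
      refine ⟨Qm, T, e1, e2.trans ?_⟩
      haveI : Unique (Diag N.dm j) := ⟨⟨k⟩, hk⟩
      simp [Normal.sdet, dotProduct, mulVec, det_unique]
    · simp only [Normal.mult, if_pos] at h1
      obtain ⟨k, hk⟩ := Fintype.card_eq_one_iff.1 h1
      obtain ⟨Qm, T, e1, e2⟩ := (N.exists_chain true (j := j)).1 (fun _ => 1) rfl
      refine ⟨Qm, T, e1, e2.trans ?_⟩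
      haveI : Unique (Diag N.dp j) := ⟨⟨k⟩, hk⟩
      simp [Normal.sdet, dotProduct, mulVec, det_unique]
  refine ⟨fun b j hj => ?_, fun b b' j j' hj hj' h1 h1' =>
    hrel j j' _ _ hj hj' (N.sdet_ne b j) (N.sdet_ne b' j') (hone b j h1) (hone b' j' h1')⟩
  by_contra hlt
  obtain ⟨ν, hν⟩ := exists_nonsquare' h2
  have hν0 : ν ≠ 0 := fun h => hν (h ▸ ⟨0, (mul_zero 0).symm⟩)
  have hval : ∀ a : F, a ≠ 0 → Val j a := by
    intro a ha
    cases b
    · simp only [Normal.mult, Bool.false_eq_true, if_false] at hlt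
      obtain ⟨u, hu⟩ := exists_value h2 N.hm hj (by omega) ha
      obtain ⟨Qm, T, e1, e2⟩ := (N.exists_chain false (j := j)).2 u rfl
      exact ⟨Qm, T, e1, by rw [e2, hu]⟩
    · simp only [Normal.mult, if_pos] at hlt
      obtain ⟨u, hu⟩ := exists_value h2 N.hp hj (by omega) ha
      obtain ⟨Qm, T, e1, e2⟩ := (N.exists_chain true (j := j)).1 u rfl
      exact ⟨Qm, T, e1, by rw [e2, hu]⟩
  have h := hrel j j 1 ν hj hj one_ne_zero hν0 (hval 1 one_ne_zero) (hval ν hν0)
  rw [mul_one, ← mul_assoc, mul_comm _ ν] at h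
  exact hν ((CfsgLib.Geometry.isSquare_mul_sq_iff (wt_ne_zero j)).1 (by convert h using 1; ring))

/-- Multiply the form by a scalar. -/
noncomputable def Normal.scale (N : Normal (1 : F) A J) {ν : F} (hν : ν ≠ 0) : Normal (1 : F) A (ν • J) where
  tp := N.tp
  dp := N.dp
  Hp := ν • N.Hp
  tm := N.tm
  dm := N.dm
  Hm := ν • N.Hm
  r := N.r
  C0 := N.C0
  H0 := ν • N.H0
  hp := ⟨N.hp.pos, one_ne_zero, by rw [cT_id, transpose_smul, ← cT_id N.Hp, N.hp.herm, smul_comm],
    by rw [det_smul]; exact mul_ne_zero (pow_ne_zero _ hν) N.hp.det_ne,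
    by rw [Matrix.mul_smul, Matrix.smul_mul, N.hp.inv]⟩
  hm := ⟨N.hm.pos, one_ne_zero, by rw [cT_id, transpose_smul, ← cT_id N.Hm, N.hm.herm, smul_comm],
    by rw [det_smul]; exact mul_ne_zero (pow_ne_zero _ hν) N.hm.det_ne,
    by rw [Matrix.mul_smul, Matrix.smul_mul, N.hm.inv]⟩
  h0 := by rw [transpose_smul, N.h0, smul_comm]
  h0d := by rw [det_smul]; exact mul_ne_zero (pow_ne_zero _ hν) N.h0d
  h0C := by rw [Matrix.mul_smul, Matrix.smul_mul, N.h0C]
  hC1 := N.hC1
  hC2 := N.hC2
  iso := by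
    obtain ⟨Q, R, h1, h2, h3, h4⟩ := N.iso
    refine ⟨Q, R, h1, h2, h3, ?_⟩
    rw [Matrix.mul_smul, Matrix.smul_mul, h4]
    simp [fromBlocks_smul]

theorem formG_smul {t : ℕ} {d : Fin t → ℕ} (ν : F) (H : Matrix (Idx d) (Idx d) F) (j : ℕ) :
    formG (ν • H) j = ν • formG H j := by
  ext k l
  simp [formG, ent]

/-- The reduced code. -/
noncomputable def Normal.splitCode (N : Normal (1 : F) A J) :
    (Fin (Fintype.card κ) → Polynomial F) × (Fin (Fintype.card κ) → Fin 4 → Bool) :=
  (fun i => N.poly i, fun i => ![pres N.Hp i, false, pres N.Hm i, false])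

theorem Normal.splitCode_isCode (N : Normal (1 : F) A J) (h2 : (2 : F) ≠ 0) (hN : N.Tight) :
    IsCode (Fintype.card κ) (1 : F) N.splitCode ∧
      (∀ i l, N.splitCode.2 i l = true → l = 0 ∨ l = 2) ∧
      ∀ i : Fin (Fintype.card κ), (i : ℕ) = 0 → (N.poly i).eval 1 ≠ 0 ∧ (N.poly i).eval (-1) ≠ 0 := by
  classical
  obtain ⟨hc1, hc2, hc3, hc4, hw, hb⟩ := N.code_isCode h2 (Or.inl rfl)
  have hone : ∀ {t : ℕ} {d : Fin t → ℕ} (K : Matrix (Idx d) (Idx d) F) (i : ℕ),
      (IsSlot (1 : F) i → Fintype.card (Diag d (i + 1)) ≤ 1) →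
      bw (pres K i) = bw (piece (1 : F) K i).2.1 + bw (piece (1 : F) K i).2.2 ∧
      (pres K i = true → IsSlot (1 : F) i) := by
    intro t d K i hsm
    by_cases hs : IsSlot (1 : F) i
    · obtain ⟨hp, h1, -⟩ := piece_slot_small (H := K) hs (hsm hs)
      refine ⟨?_, fun _ => hs⟩
      simp only [pres, hp]
      cases hcl : cls (1 : F) K i <;> simp [bw]
    · simp [pres, piece_nonslot (H := K) hs, bw]
  have hp := fun i : ℕ => hone N.Hp i fun hs => by
    simpa [Normal.mult] using hN.small true (i + 1) ((isSlot_one_iff h2 i).1 hs)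
  have hm := fun i : ℕ => hone N.Hm i fun hs => by
    simpa [Normal.mult] using hN.small false (i + 1) ((isSlot_one_iff h2 i).1 hs)
  refine ⟨⟨hc1, hc2, hc3, hc4, ?_, fun i l hl => ?_⟩, fun i l hl => ?_, fun i hi => ?_⟩
  · refine Eq.trans (Finset.sum_congr rfl fun i _ => ?_) hw
    congr 2
    simp only [Normal.splitCode, Normal.code, Normal.bits, Fin.sum_univ_four, Matrix.cons_val_zero,
      Matrix.cons_val_one, Matrix.cons_val_two, Matrix.cons_val_three, Matrix.head_cons, Matrix.tail_cons]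
    have h0 : bw false = 0 := rfl
    rw [(hp i).1, (hm i).1]
    omega
  · fin_cases l
    · exact (hp i).2 hl
    · exact Bool.noConfusion (hl : false = true)
    · exact (hm i).2 hl
    · exact Bool.noConfusion (hl : false = true)
  · fin_cases l
    · exact Or.inl rfl
    · exact Bool.noConfusion (hl : false = true)
    · exact Or.inr rfl
    · exact Bool.noConfusion (hl : false = true)
  · have hs : IsSlot (1 : F) (i : ℕ) := (isSlot_one_iff h2 _).2 (by simp [hi])
    have ep := (piece_slot_small (H := N.Hp) hs (by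
      simpa [Normal.mult] using hN.small true ((i : ℕ) + 1) ((isSlot_one_iff h2 _).1 hs))).1
    have em := (piece_slot_small (H := N.Hm) hs (by
      simpa [Normal.mult] using hN.small false ((i : ℕ) + 1) ((isSlot_one_iff h2 _).1 hs))).1
    obtain ⟨-, -, -, e1, e2⟩ := N.rest_props.2.1 (i : ℕ)
    simp [Normal.poly, ep, em, e1, e2]

/-- The reduced code determines the class. -/
theorem Normal.iso_of_splitCode {A' : Matrix κ κ F} (N : Normal (1 : F) A J) (N' : Normal (1 : F) A' J)
    (h2 : (2 : F) ≠ 0) (hodd : Odd (Fintype.card κ)) (hJd : J.det ≠ 0) (hN : N.Tight) (hN' : N'.Tight)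
    (h : N.splitCode = N'.splitCode) : Iso A J A' J := by
  classical
  have hpoly : ∀ i : Fin (Fintype.card κ), N.poly i = N'.poly i := fun i => congrFun (congrArg Prod.fst h) i
  have hbp : ∀ i : Fin (Fintype.card κ), pres N.Hp i = pres N'.Hp i := fun i =>
    congrFun (congrFun (congrArg Prod.snd h) i) 0
  have hbm : ∀ i : Fin (Fintype.card κ), pres N.Hm i = pres N'.Hm i := fun i =>
    congrFun (congrFun (congrArg Prod.snd h) i) 2
  -- presence and multiplicity
  have hpres : ∀ {t : ℕ} {d : Fin t → ℕ} (K : Matrix (Idx d) (Idx d) F) (i : ℕ), IsSlot (1 : F) i →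
      Fintype.card (Diag d (i + 1)) ≤ 1 → (pres K i = true ↔ Fintype.card (Diag d (i + 1)) = 1) := by
    intro t d K i hs hsm
    obtain ⟨hp, h1, -⟩ := piece_slot_small (H := K) hs hsm
    rw [pres, hp]
    cases hcl : cls (1 : F) K i
    · simp
    · simp [h1 hcl]
  have hpresN : ∀ {B : Matrix κ κ F} (K : Normal (1 : F) B J), K.Tight → ∀ (b : Bool) (i : ℕ), IsSlot (1 : F) i →
      ((if b then pres K.Hp i else pres K.Hm i) = true ↔ K.mult b (i + 1) = 1) := by
    intro B K hK b i hs
    have hsm := hK.small b (i + 1) ((isSlot_one_iff h2 i).1 hs)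
    cases b <;> simp only [Normal.mult, if_pos, Bool.false_eq_true, if_false] at hsm ⊢ <;> exact hpres _ i hs hsm
  have hm : ∀ (b : Bool) (i : Fin (Fintype.card κ)), IsSlot (1 : F) i →
      (N.mult b ((i : ℕ) + 1) = 1 ↔ N'.mult b ((i : ℕ) + 1) = 1) := by
    intro b i hs
    rw [← hpresN N hN b i hs, ← hpresN N' hN' b i hs]
    cases b <;> simp [hbp i, hbm i]
  -- the classes agree everywhere or nowhere
  let Agree : Prop := ∀ (b : Bool) (i : Fin (Fintype.card κ)), IsSlot (1 : F) i → N.mult b ((i : ℕ) + 1) = 1 →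
    (IsSquare (N.sdet b ((i : ℕ) + 1)) ↔ IsSquare (N'.sdet b ((i : ℕ) + 1)))
  have hall : ∀ (b b' : Bool) (i i' : Fin (Fintype.card κ)), IsSlot (1 : F) i → IsSlot (1 : F) i' →
      N.mult b ((i : ℕ) + 1) = 1 → N.mult b' ((i' : ℕ) + 1) = 1 →
      (IsSquare (N.sdet b ((i : ℕ) + 1)) ↔ IsSquare (N'.sdet b ((i : ℕ) + 1))) →
      (IsSquare (N.sdet b' ((i' : ℕ) + 1)) ↔ IsSquare (N'.sdet b' ((i' : ℕ) + 1))) := by
    intro b b' i i' hs hs' h1 h1' hag
    have o := (isSlot_one_iff h2 _).1 hs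
    have o' := (isSlot_one_iff h2 _).1 hs'
    have e := hN.rel b b' _ _ o o' h1 h1'
    have e' := hN'.rel b b' _ _ o o' ((hm b i hs).1 h1) ((hm b' i' hs').1 h1')
    have w := wt_ne_zero (F := F)
    rw [isSquare_mul_iff (mul_ne_zero (w _) (N.sdet_ne _ _)) (mul_ne_zero (w _) (N.sdet_ne _ _)),
      isSquare_mul_iff (w _) (N.sdet_ne _ _), isSquare_mul_iff (w _) (N.sdet_ne _ _)] at e
    rw [isSquare_mul_iff (mul_ne_zero (w _) (N'.sdet_ne _ _)) (mul_ne_zero (w _) (N'.sdet_ne _ _)),
      isSquare_mul_iff (w _) (N'.sdet_ne _ _), isSquare_mul_iff (w _) (N'.sdet_ne _ _)] at e'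
    tauto
  -- equality of the pieces
  have hpc : ∀ {t t' : ℕ} {d : Fin t → ℕ} {d' : Fin t' → ℕ} (K : Matrix (Idx d) (Idx d) F)
      (K' : Matrix (Idx d') (Idx d') F) (i : ℕ),
      (IsSlot (1 : F) i → Fintype.card (Diag d (i + 1)) ≤ 1 ∧ Fintype.card (Diag d' (i + 1)) ≤ 1) →
      pres K i = pres K' i →
      (IsSlot (1 : F) i → Fintype.card (Diag d (i + 1)) = 1 →
        (IsSquare (formG K (i + 1)).det ↔ IsSquare (formG K' (i + 1)).det)) →
      (piece (1 : F) K i).2 = (piece (1 : F) K' i).2 := by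
    intro t t' d d' K K' i hsm hp hcl
    by_cases hs : IsSlot (1 : F) i
    · obtain ⟨e, h1, c⟩ := piece_slot_small (H := K) hs (hsm hs).1
      obtain ⟨e', h1', c'⟩ := piece_slot_small (H := K') hs (hsm hs).2
      have a := hpres K i hs (hsm hs).1
      have a' := hpres K' i hs (hsm hs).2
      rw [hp] at a
      have hcc : cls (1 : F) K i = cls (1 : F) K' i := by
        rw [Bool.eq_iff_iff]
        by_cases h0 : Fintype.card (Diag d (i + 1)) = 1
        · rw [c, c', hcl hs h0]
        · exact iff_of_false (fun hh => h0 (h1 hh)) (fun hh => h0 (a.1 (a'.2 (h1' hh))))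
      have hdd : decide (Fintype.card (Diag d (i + 1)) = 1) = decide (Fintype.card (Diag d' (i + 1)) = 1) :=
        decide_eq_decide.2 (a.symm.trans a')
      rw [e, e', hcc, hdd]
    · rw [piece_nonslot hs, piece_nonslot hs]
  by_cases hA : Agree
  · refine N.iso_of_code N' h2 (Or.inl rfl) (Prod.ext (funext fun i => hpoly i) (funext fun i => ?_))
    have ep := hpc N.Hp N'.Hp i
      (fun hs => ⟨by simpa [Normal.mult] using hN.small true _ ((isSlot_one_iff h2 _).1 hs),
        by simpa [Normal.mult] using hN'.small true _ ((isSlot_one_iff h2 _).1 hs)⟩)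
      (hbp i) (fun hs h1 => by simpa [Normal.sdet] using hA true i hs (by simpa [Normal.mult] using h1))
    have em := hpc N.Hm N'.Hm i
      (fun hs => ⟨by simpa [Normal.mult] using hN.small false _ ((isSlot_one_iff h2 _).1 hs),
        by simpa [Normal.mult] using hN'.small false _ ((isSlot_one_iff h2 _).1 hs)⟩)
      (hbm i) (fun hs h1 => by simpa [Normal.sdet] using hA false i hs (by simpa [Normal.mult] using h1))
    show N.bits i = N'.bits i
    rw [Normal.bits, Normal.bits, ep, em]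
  · -- all classes disagree: scale the form
    exfalso
    simp only [Agree, not_forall] at hA
    obtain ⟨b, i, hs, h1, hdis⟩ := hA
    have hdis' : ∀ (b' : Bool) (i' : Fin (Fintype.card κ)), IsSlot (1 : F) i' → N.mult b' ((i' : ℕ) + 1) = 1 →
        ¬ (IsSquare (N.sdet b' ((i' : ℕ) + 1)) ↔ IsSquare (N'.sdet b' ((i' : ℕ) + 1))) :=
      fun b' i' hs' h1' hag => hdis (hall b' b i' i hs' hs h1' h1 hag)
    obtain ⟨ν, hν⟩ := exists_nonsquare' h2
    have hν0 : ν ≠ 0 := fun h => hν (h ▸ ⟨0, (mul_zero 0).symm⟩)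
    have hflip : ∀ {t : ℕ} {d : Fin t → ℕ} {K : Matrix (Idx d) (Idx d) F}, SForm idF 1 d K → ∀ j,
        Fintype.card (Diag d j) = 1 →
        (IsSquare (formG (ν • K) j).det ↔ ¬ IsSquare (formG K j).det) := by
      intro t d K hK j hj
      rw [formG_smul, det_smul, hj, pow_one, isSquare_mul_iff hν0 (formG_det_ne hK j)]
      simp [hν]
    have hscale1 : ∀ {t : ℕ} {d : Fin t → ℕ} (K : Matrix (Idx d) (Idx d) F) (j : ℕ),
        (IsSlot (1 : F) j → Fintype.card (Diag d (j + 1)) ≤ 1) →
        (piece (1 : F) (ν • K) j).1 = (piece (1 : F) K j).1 ∧ pres (ν • K) j = pres K j := by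
      intro t d K j hsm
      by_cases hs' : IsSlot (1 : F) j
      · refine ⟨by rw [(piece_slot_small hs' (hsm hs')).1, (piece_slot_small hs' (hsm hs')).1], ?_⟩
        rw [Bool.eq_iff_iff, hpres _ _ hs' (hsm hs'), hpres _ _ hs' (hsm hs')]
      · simp [pres, piece_nonslot hs']
    let M := N'.scale hν0
    have hcode : N.code = M.code := by
      refine Prod.ext (funext fun k => ?_) (funext fun k => ?_)
      · show N.poly k = M.poly k
        rw [hpoly]
        show _ = (Polynomial.X - Polynomial.C (1 : F)) ^ (2 * (piece (1 : F) (ν • N'.Hp) k).1) *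
          (Polynomial.X - Polynomial.C (-1 : F)) ^ (2 * (piece (1 : F) (ν • N'.Hm) k).1) * restTuple N'.C0 k
        rw [(hscale1 N'.Hp k fun hs' => by
            simpa [Normal.mult] using hN'.small true _ ((isSlot_one_iff h2 _).1 hs')).1,
          (hscale1 N'.Hm k fun hs' => by
            simpa [Normal.mult] using hN'.small false _ ((isSlot_one_iff h2 _).1 hs')).1]
        rfl
      · have ep := hpc N.Hp (ν • N'.Hp) k
          (fun hs' => ⟨by simpa [Normal.mult] using hN.small true _ ((isSlot_one_iff h2 _).1 hs'),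
            by simpa [Normal.mult] using hN'.small true _ ((isSlot_one_iff h2 _).1 hs')⟩)
          ((hbp k).trans (hscale1 N'.Hp k fun hs' => by
            simpa [Normal.mult] using hN'.small true _ ((isSlot_one_iff h2 _).1 hs')).2.symm)
          (fun hs' h1' => by
            have hd := hdis' true k hs' (by simpa [Normal.mult] using h1')
            have hm' := (hm true k hs').1 (by simpa [Normal.mult] using h1')
            simp only [Normal.mult, Normal.sdet, if_pos] at hd hm'
            rw [hflip N'.hp _ hm']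
            tauto)
        have em := hpc N.Hm (ν • N'.Hm) k
          (fun hs' => ⟨by simpa [Normal.mult] using hN.small false _ ((isSlot_one_iff h2 _).1 hs'),
            by simpa [Normal.mult] using hN'.small false _ ((isSlot_one_iff h2 _).1 hs')⟩)
          ((hbm k).trans (hscale1 N'.Hm k fun hs' => by
            simpa [Normal.mult] using hN'.small false _ ((isSlot_one_iff h2 _).1 hs')).2.symm)
          (fun hs' h1' => by
            have hd := hdis' false k hs' (by simpa [Normal.mult] using h1')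
            have hm' := (hm false k hs').1 (by simpa [Normal.mult] using h1')
            simp only [Normal.mult, Normal.sdet, Bool.false_eq_true, if_false] at hd hm'
            rw [hflip N'.hm _ hm']
            tauto)
        show N.bits k = ![(piece (1 : F) (ν • N'.Hp) k).2.1, (piece (1 : F) (ν • N'.Hp) k).2.2,
          (piece (1 : F) (ν • N'.Hm) k).2.1, (piece (1 : F) (ν • N'.Hm) k).2.2]
        rw [Normal.bits, ep, em]
    obtain ⟨Q, R, -, -, -, h4⟩ := N.iso_of_code M h2 (Or.inl rfl) hcode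
    have hd := congrArg Matrix.det h4
    rw [det_mul, det_mul, det_transpose, det_smul] at hd
    obtain ⟨k, hk⟩ := hodd
    refine hν ⟨(Q.det * ν ^ k)⁻¹, ?_⟩
    rw [hk, pow_succ, two_mul, pow_add] at hd
    have hQ0 : Q.det * ν ^ k ≠ 0 := fun h0 => hJd (by
      rw [← hd]
      linear_combination (Q.det * ν ^ k * ν * J.det) * h0)
    have key : ν * (Q.det * ν ^ k * (Q.det * ν ^ k)) = 1 := mul_right_cancel₀ hJd (by linear_combination hd)
    rw [← mul_inv]
    exact eq_inv_of_mul_eq_one_left key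

end CfsgLib.FgsC.FormClasses
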