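import Cfsg.Agent.Lib.FgsC.FormClasses.Odd.Group
import Cfsg.Agent.Lib.FgsC.FormClasses.Odd.SplitCode
import Cfsg.Agent.Lib.FgsC.FormClasses.Odd.Bounds
import Cfsg.Agent.Lib.FgsC.FormClasses.Odd.Lower
import Cfsg.Agent.Lib.Geometry.GraphPSL.Classes

/-!
`q^n / 2 ≤ k(Ω_2n+1(q)) ≤ 7.3 q^n` in odd characteristic.
-/

set_option autoImplicit false

namespace CfsgLib.FgsC.FormClasses

open Matrix QuadraticMap CfsgLib.Geometry

universe u

variable {F : Type u} [Field F] [Fintype F] {κ : Type} [Fintype κ] [DecidableEq κ]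

theorem card_classes_congr {G H : Type*} [Group G] [Group H] (e : G ≃* H) :
    Nat.card (ConjClasses G) = Nat.card (ConjClasses H) := by
  refine Nat.card_congr (Equiv.ofBijective (ConjClasses.map e.toMonoidHom) ⟨fun a b h => ?_, fun c => ?_⟩)
  · obtain ⟨x, rfl⟩ := ConjClasses.mk_surjective a
    obtain ⟨y, rfl⟩ := ConjClasses.mk_surjective b
    obtain ⟨z, hz⟩ := isConj_iff.1 (ConjClasses.mk_eq_mk_iff_isConj.1 h)
    exact ConjClasses.mk_eq_mk_iff_isConj.2 (isConj_iff.2 ⟨e.symm z, e.injective (by simpa using hz)⟩)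
  · obtain ⟨x, rfl⟩ := ConjClasses.mk_surjective c
    exact ⟨ConjClasses.mk (e.symm x), congrArg ConjClasses.mk (e.apply_symm_apply x)⟩

theorem card_omega_bounds (hodd : Odd (Fintype.card F)) {n : ℕ} (hn : 2 ≤ n) (hκ : Fintype.card κ = 2 * n + 1)
    (M : Matrix κ κ F) {Q : (κ → F) → F} (hQ : ⇑(matQuad M) = Q) (hd : (M + Mᵀ).det ≠ 0) :
    Fintype.card F ^ n ≤ 2 * Nat.card (ConjClasses ↥(Cfsg.Omega F Q)) ∧
      10 * Nat.card (ConjClasses ↥(Cfsg.Omega F Q)) ≤ 73 * Fintype.card F ^ n := by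
  classical
  subst hQ
  have h2 := two_ne_zero_of_odd hodd
  have hoddκ : Odd (Fintype.card κ) := hκ ▸ odd_two_mul_add_one n
  have hJ : (M + Mᵀ)ᵀ = M + Mᵀ := by rw [transpose_add, transpose_transpose, add_comm]
  have hpol : ∀ u v, polar (matQuad M) u v = u ⬝ᵥ ((M + Mᵀ) *ᵥ v) := polar_matQuad M
  have hnd : (polarBilin (matQuad M)).Nondegenerate := by
    refine ⟨fun u hu => ?_, fun v hv => ?_⟩
    · refine Matrix.eq_zero_of_mulVec_eq_zero hd (funext fun i => ?_)
      have h := hu (Pi.single i 1)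
      rw [polarBilin_apply_apply, polar_comm, hpol, single_dotProduct, one_mul] at h
      exact h
    · refine Matrix.eq_zero_of_mulVec_eq_zero hd (funext fun i => ?_)
      have h := hv (Pi.single i 1)
      rw [polarBilin_apply_apply, hpol, single_dotProduct, one_mul] at h
      exact h
  have hR := reflGroup_eq_orth_of_two_ne hnd h2
  have hmem : ∀ g : GL κ F, g ∈ Cfsg.isometryGroup F ⇑(matQuad M) ↔
      (g : Matrix κ κ F)ᵀ * (M + Mᵀ) * (g : Matrix κ κ F) = M + Mᵀ := by
    intro g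
    rw [mem_isometryGroup_iff]
    constructor
    · intro h
      refine Matrix.toBilin'.injective ?_
      refine LinearMap.ext fun u => LinearMap.ext fun v => ?_
      rw [Matrix.toBilin'_apply', Matrix.toBilin'_apply', ← Matrix.mulVec_mulVec, ← Matrix.mulVec_mulVec,
        Matrix.dotProduct_mulVec, vecMul_transpose, ← polar_matQuad, ← polar_matQuad, QuadraticMap.polar,
        QuadraticMap.polar, ← mulVec_add, h, h, h]
    · intro h v
      refine mul_left_cancel₀ h2 ?_
      rw [← polar_self' (matQuad M), ← polar_self' (matQuad M), polar_matQuad, polar_matQuad]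
      conv_rhs => rw [← h]
      rw [← Matrix.mulVec_mulVec, ← Matrix.mulVec_mulVec, Matrix.dotProduct_mulVec v ((g : Matrix κ κ F)ᵀ),
        vecMul_transpose]
  let G := Cfsg.isometryGroup F ⇑(matQuad M)
  let φ : G →* Matrix κ κ F :=
    (Units.coeHom (Matrix κ κ F)).comp (Cfsg.isometryGroup F ⇑(matQuad M)).subtype
  have hsur : ∀ A : Matrix κ κ F, Aᵀ * (M + Mᵀ) * A = M + Mᵀ → ∃ g, φ g = A := fun A hA =>
    ⟨⟨GeneralLinearGroup.mkOfDetNeZero A (det_ne_of_preserves hd hA), (hmem _).2 hA⟩, rfl⟩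
  have hφ : Function.Injective φ := fun a b h => Subtype.ext (Units.ext h)
  have hmem' : ∀ g : G, (φ g)ᵀ * (M + Mᵀ) * φ g = M + Mᵀ := fun g => (hmem g.1).1 g.2
  -- the special group and the central element
  obtain ⟨S, hS⟩ : ∃ S, S = (detHom ⇑(matQuad M)).ker := ⟨_, rfl⟩
  have hv : ∃ v, matQuad M v ≠ 0 := exists_ne_zero_of_nondegenerate _ hnd (by omega)
  have hSi : S.index = 2 := hS ▸ index_special (matQuad M) h2 hR hv
  let e : G := ⟨-1, (hmem _).2 (by simp [Units.val_neg])⟩
  have he : e ∈ Subgroup.center G :=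
    Subgroup.mem_center_iff.2 fun g => Subtype.ext (Units.ext (by simp [e, Units.val_neg]))
  have hee : e * e = 1 := Subtype.ext (by simp [e])
  have heS : e ∉ S := by
    rw [hS, MonoidHom.mem_ker]
    intro h
    have h' := congrArg Units.val h
    rw [detHom, MonoidHom.comp_apply, Subgroup.coe_subtype, Matrix.GeneralLinearGroup.val_det_apply] at h'
    simp only [e, Units.val_neg, Units.val_one, Matrix.det_neg, Matrix.det_one, mul_one, hoddκ.neg_one_pow] at h'
    exact h2 (by linear_combination -h')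
  -- `Ω` inside it
  have hle : Cfsg.Omega F ⇑(matQuad M) ≤ S := hS ▸ Abelianization.commutator_subset_ker _
  have hOi : (Cfsg.Omega F ⇑(matQuad M)).index = 4 := by
    rw [index_Omega, index_commutator_orth_odd hnd (by rw [Module.finrank_fintype_fun_eq_card, hκ]; omega) h2 hR]
  have hHi : ((Cfsg.Omega F ⇑(matQuad M)).subgroupOf S).index = 2 := by
    have h := Subgroup.relIndex_mul_index hle
    rw [hSi, hOi] at h
    show (Cfsg.Omega F ⇑(matQuad M)).relIndex S = 2
    omega
  haveI : Finite G := Finite.of_injective φ hφ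
  have hk := two_mul_card_classes_index_two _ hHi
  rw [card_classes_congr (Subgroup.subgroupOfEquivOfLe hle)] at hk
  have hkO := card_classes_central S hSi he hee heS
  have hsplit := two_mul_split_le S hSi he hee heS (Cfsg.Omega F ⇑(matQuad M))
  -- upper bounds
  have hO : 2 * Nat.card (ConjClasses G) ≤ codeSum (Fintype.card F) (2 * n + 1) (slotB (1 : F)) := by
    have h := two_mul_card_classes_le φ hodd hJ hd hφ hmem' hsur
    rwa [hκ, codeSum_false_odd (odd_two_mul_add_one n), add_zero] at h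
  have hJ1 : (M + Mᵀ)ᵀ = (1 : F) • (M + Mᵀ) := by rw [one_smul, hJ]
  have hZ : Nat.card {C : ConjClasses G // ∀ g, Commute C.out g → g ∈ S → g ∈ Cfsg.Omega F ⇑(matQuad M)} ≤
      Nat.card {z // IsCode2 (Fintype.card κ) F z} := by
    haveI := code2_finite (F := F) (N := Fintype.card κ)
    let P := {C : ConjClasses G // ∀ g, Commute C.out g → g ∈ S → g ∈ Cfsg.Omega F ⇑(matQuad M)}
    let N : (C : P) → Normal (1 : F) (φ C.1.out) (M + Mᵀ) := fun C =>
      (exists_normal (one_mul 1) hJ1 hd (hmem' _)).some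
    have hT : ∀ C : P, (N C).Tight := fun C => (N C).tight_of_split h2 hnd hR (y := C.1.out)
      (fun g hg hdg => C.2 g hg (hS ▸ MonoidHom.mem_ker.2 hdg)) rfl (hmem' _)
    refine Nat.card_le_card_of_injective (fun C : P => (⟨(N C).splitCode, ?_⟩ :
      {z // IsCode2 (Fintype.card κ) F z})) fun C D h => ?_
    · obtain ⟨h1, h1', h1''⟩ := (N C).splitCode_isCode h2 (hT C)
      exact ⟨h1, fun i l hl => ⟨by rw [← slotB_one_eq h2]; exact slotB_eq_true.2 (h1.bit i l hl), h1' i l hl⟩, h1''⟩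
    · have hI := (N C).iso_of_splitCode (N D) h2 hoddκ hd (hT C) (hT D) (congrArg Subtype.val h)
      obtain ⟨Qu, hQ, hQJ⟩ := hI.exists_unit
      obtain ⟨g, hg⟩ := hsur _ hQJ
      refine Subtype.ext ?_
      rw [← Quotient.out_eq C.1, ← Quotient.out_eq D.1]
      refine ConjClasses.mk_eq_mk_iff_isConj.2 (isConj_iff.2 ⟨g, hφ ?_⟩)
      have h1 : φ g * φ g⁻¹ = 1 := by rw [← map_mul, mul_inv_cancel, map_one]
      rw [map_mul, map_mul, hg, hQ, mul_assoc, ← hg, h1, mul_one]
  rw [hκ] at hZ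
  have hlow := card_orth_odd_ge φ hodd hκ hJ hd hsur
  have hC := codeSum_odd_le hodd n
  have hC2 := card_code2_odd_le hodd n hn
  simp only [G] at hO hZ hlow
  constructor <;> omega

theorem card_omega_odd_bounds (hodd : Odd (Fintype.card F)) (n : ℕ) (hn : 2 ≤ n) :
    Fintype.card F ^ n ≤ 2 * Nat.card (ConjClasses ↥(Cfsg.Omega F (Cfsg.quadFormOdd n F))) ∧
      10 * Nat.card (ConjClasses ↥(Cfsg.Omega F (Cfsg.quadFormOdd n F))) ≤ 73 * Fintype.card F ^ n :=
  card_omega_bounds hodd hn (by simp only [Fintype.card_sum, Fintype.card_fin, Fintype.card_unit]; omega) _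
    (GraphPSL.coe_matQuad_odd n)
    (by rw [GraphPSL.det_odd_gram]; exact mul_ne_zero (two_ne_zero_of_odd hodd) (pow_ne_zero _ (neg_ne_zero.2 one_ne_zero)))

end CfsgLib.FgsC.FormClasses
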